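import Cfsg.Agent.GW.PhiTrick.Slice

/-!
# Gorenstein–Walter, Φ-trick: the degree of a faithful character

`a` of order `r` centralises `L`, `ζ = a^k·l` is moved into `a ↦ a·ζ` by a transvection and inverted
by some element.  Then each eigenspace of `a` in a faithful representation carries a nontrivial
constituent of `L`.
-/

set_option autoImplicit false
set_option linter.unusedSectionVars false
set_option linter.style.haveILetI false

namespace CfsgLib.GW.PhiTrick

open Cfsg CfsgLib.Characters Subgroup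
open scoped ComplexConjugate

universe u

variable {G : Type u} [Group G] [Fintype G]

open Classical in
/-- **The degree bound.** -/
theorem degree_bound {r : ℕ} (hr : r.Prime) (hr2 : r ≠ 2) {a : G} (ha : orderOf a = r)
    (L : Subgroup G) [Fintype L] (hcomm : ∀ l ∈ L, a * l = l * a) {B : ℕ}
    (hL : ∀ θ : IrrCharacter L, (θ : L → ℂ) ≠ (fun _ => 1) → ∀ m : ℕ, (θ : L → ℂ) 1 = m → B ≤ m)
    {ζ l : G} (k : ℤ) (hl : l ∈ L) (hζ : ζ = a ^ k * l) (hζr : ζ ^ r = 1)
    {y : G} (hya : y * a * y⁻¹ = a * ζ) (hyζ : y * ζ * y⁻¹ = ζ)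
    {w : G} (hw : w * ζ * w⁻¹ = ζ⁻¹)
    {χ : IrrCharacter G} (hfaith : (χ : G → ℂ) ζ ≠ (χ : G → ℂ) 1) {n : ℕ}
    (hn : (χ : G → ℂ) 1 = n) : r * B ≤ n := by
  haveI : Fact r.Prime := ⟨hr⟩
  haveI : Finite G := inferInstance
  haveI := Fintype.ofFinite (zpowers a)
  have hK : ∀ p q : zpowers a, p * q = q * p := fun p q => Subtype.ext (by
    obtain ⟨i, hi⟩ := mem_zpowers_iff.1 p.2
    obtain ⟨j, hj⟩ := mem_zpowers_iff.1 q.2
    simp only [coe_mul, ← hi, ← hj]
    exact ((Commute.refl a).zpow_zpow i j).eq)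
  have hcommK : ∀ x ∈ zpowers a, ∀ l ∈ L, x * l = l * x := by
    intro x hx l hl
    obtain ⟨i, rfl⟩ := mem_zpowers_iff.1 hx
    exact ((show Commute a l from hcomm l hl).zpow_left i).eq
  let ρ : zpowers a × L →* G :=
    { toFun := fun p => (p.1 : G) * p.2
      map_one' := mul_one 1
      map_mul' := fun p q => by
        show (p.1 : G) * q.1 * ((p.2 : G) * q.2) = (p.1 : G) * p.2 * ((q.1 : G) * q.2)
        rw [mul_assoc, ← mul_assoc (q.1 : G), hcommK q.1 q.1.2 p.2 p.2.2]
        group }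
  -- the eigenspace characters
  set ψ : IrrCharacter (zpowers a) → L → ℂ := fun μ v =>
    classInner (fun x : zpowers a => (χ : G → ℂ) ((x : G) * v)) (μ : zpowers a → ℂ) with hψ
  have hψc : ∀ μ, Cfsg.IsCharacter L (ψ μ) := by
    intro μ
    refine isCharacter_of_classInner (fun v v' => ?_) fun θ => ?_
    · simp only [hψ]
      congr 1
      funext x
      rw [coe_mul, coe_mul, coe_inv, show (x : G) * ((v' : G) * v * (v' : G)⁻¹) =
        v' * (x * v) * (v' : G)⁻¹ by
          rw [← mul_assoc, ← mul_assoc, hcommK x x.2 v' v'.2]; group]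
      exact isClassFunction_of_isIrr χ.2 _ _
    · obtain ⟨m, hm⟩ := classInner_characters (isCharacter_comp ρ (isCharacter_of_isIrr χ.2))
        (isCharacter_mul (isCharacter_comp (MonoidHom.fst (zpowers a) L) (isCharacter_of_isIrr μ.2))
          (isCharacter_comp (MonoidHom.snd (zpowers a) L) (isCharacter_of_isIrr θ.2)))
      refine ⟨m, ?_⟩
      rw [← hm]
      simp only [hψ, classInner, Nat.card_prod, Nat.cast_mul, mul_inv, Fintype.sum_prod_type,
        Finset.mul_sum, Finset.sum_mul, Pi.mul_apply, map_mul]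
      rw [Finset.sum_comm]
      exact Finset.sum_congr rfl fun x _ => Finset.sum_congr rfl fun v _ => by
        simp only [MonoidHom.coe_fst, MonoidHom.coe_snd, ρ, MonoidHom.coe_mk, OneHom.coe_mk]
        ring
  choose d hd using fun μ => exists_degree (hψc μ)
  have hsum : ∑ μ, d μ = n := by
    have hc : IsClassFunction (zpowers a) fun x : zpowers a => (χ : G → ℂ) x := fun g x => by
      show (χ : G → ℂ) ((x * g * x⁻¹ : zpowers a) : G) = _
      rw [hK x g, mul_inv_cancel_right]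
    have h1 := congrFun (classFunction_expansion hc) 1
    simp only [OneMemClass.coe_one, Finset.sum_apply, Pi.smul_apply, smul_eq_mul, irr_one hK,
      mul_one, hn] at h1
    apply Nat.cast_injective (R := ℂ)
    rw [h1, Nat.cast_sum]
    refine Finset.sum_congr rfl fun μ _ => ?_
    rw [← hd μ]
    simp [hψ]
  have hcard : Fintype.card (IrrCharacter (zpowers a)) = r := by
    rw [card_irr hK, Nat.card_zpowers, ha]
  suffices hB : ∀ μ, B ≤ d μ by
    calc r * B = ∑ _μ : IrrCharacter (zpowers a), B := by rw [Finset.sum_const, Finset.card_univ,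
          hcard, smul_eq_mul]
      _ ≤ ∑ μ, d μ := Finset.sum_le_sum fun μ _ => hB μ
      _ = n := hsum
  intro μ
  by_contra hlt
  -- the eigenspace is trivial for `L`
  have hconst : ∀ v : L, ψ μ v = d μ := by
    obtain ⟨c, hc⟩ := exists_nat_coeff (hψc μ)
    choose e he0 he using fun θ : IrrCharacter L => exists_degree_pos θ.2
    have hdeg : d μ = ∑ θ, c θ * e θ := by
      have h1 := congrFun hc 1
      simp only [Finset.sum_apply, Pi.smul_apply, smul_eq_mul, he, hd] at h1
      exact_mod_cast h1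
    have hz : ∀ θ : IrrCharacter L, (θ : L → ℂ) ≠ (fun _ => 1) → c θ = 0 := by
      intro θ hθ
      by_contra h0
      have hle : c θ * e θ ≤ d μ := hdeg ▸ Finset.single_le_sum (f := fun θ => c θ * e θ)
        (fun _ _ => Nat.zero_le _) (Finset.mem_univ θ)
      have := hL θ hθ (e θ) (he θ)
      have h2 : 1 * e θ ≤ c θ * e θ := Nat.mul_le_mul_right _ (Nat.pos_of_ne_zero h0)
      omega
    intro v
    rw [← hd μ, hc]
    simp only [Finset.sum_apply, Pi.smul_apply, smul_eq_mul]
    refine Finset.sum_congr rfl fun θ _ => ?_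
    by_cases hθ : (θ : L → ℂ) = fun _ => 1
    · rw [hθ]
    · rw [hz θ hθ]; simp
  obtain ⟨f, hf⟩ := exists_hom_of_degree_one (isCharacter_of_isIrr μ.2) (irr_one hK μ)
  set g : zpowers a := ⟨a ^ k, zpow_mem (mem_zpowers a) k⟩ with hg
  set c : ℂ := (f g : ℂ) with hc
  -- translation off the identity
  have hshift : ∀ x : zpowers a, x ≠ 1 → ∀ j : ℤ, (χ : G → ℂ) ((x : G) * ζ ^ j) = (χ : G → ℂ) x := by
    intro x hx j
    obtain ⟨i, hi⟩ := mem_zpowers_iff.1 x.2
    have haζ : Commute a ζ := by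
      rw [hζ]; exact ((Commute.refl a).zpow_right k).mul_right (hcomm l hl)
    have hstep : ∀ t : ℕ, y ^ t * a * (y ^ t)⁻¹ = a * ζ ^ t := by
      intro t
      induction t with
      | zero => simp
      | succ t ih =>
        have hyt : y * ζ ^ t * y⁻¹ = ζ ^ t := by rw [← conj_pow, hyζ]
        calc y ^ (t + 1) * a * (y ^ (t + 1))⁻¹ = y * (y ^ t * a * (y ^ t)⁻¹) * y⁻¹ := by
              rw [pow_succ']; group
          _ = (y * a * y⁻¹) * (y * ζ ^ t * y⁻¹) := by rw [ih]; group
          _ = a * ζ ^ (t + 1) := by rw [hya, hyt, pow_succ', mul_assoc]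
    have hi' : ¬ (r : ℤ) ∣ i := by
      intro hd'
      refine hx (Subtype.ext ?_)
      rw [← hi]
      exact orderOf_dvd_iff_zpow_eq_one.1 (by rwa [ha])
    obtain ⟨t, ht⟩ : ∃ t : ℕ, ((r : ℤ)) ∣ i * t - j := by
      obtain ⟨t, ht⟩ : ∃ t : ZMod r, (i : ZMod r) * t = (j : ZMod r) := by
        refine ⟨(i : ZMod r)⁻¹ * j, ?_⟩
        rw [← mul_assoc, mul_inv_cancel₀ fun h => hi' ((ZMod.intCast_zmod_eq_zero_iff_dvd _ _).1 h),
          one_mul]
      refine ⟨t.val, (ZMod.intCast_zmod_eq_zero_iff_dvd _ _).1 ?_⟩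
      push_cast
      rw [ZMod.natCast_zmod_val, ht, sub_self]
    obtain ⟨s, hs⟩ := ht
    have e1 : y ^ t * (x : G) * (y ^ t)⁻¹ = (x : G) * ζ ^ j := by
      rw [← hi, ← conj_zpow, hstep, (haζ.pow_right t).mul_zpow, ← zpow_natCast ζ t, ← zpow_mul]
      congr 1
      rw [show (t : ℤ) * i = j + (r : ℤ) * s by linarith, zpow_add, zpow_mul, zpow_natCast, hζr,
        one_zpow, mul_one]
    rw [← e1]
    exact isClassFunction_of_isIrr χ.2 _ _
  -- the values on the powers of `ζ`
  set T : ℂ := ∑ x : zpowers a, (χ : G → ℂ) x * conj (f x : ℂ) with hT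
  have key : ∀ j : ℤ, (χ : G → ℂ) (ζ ^ j) - (χ : G → ℂ) 1 = T * (c ^ j - 1) := by
    intro j
    have hv : ψ μ ⟨l ^ j, L.zpow_mem hl j⟩ = ψ μ 1 := by rw [hconst, hconst]
    simp only [hψ, hf, classInner, OneMemClass.coe_one, mul_one] at hv
    rw [mul_right_inj' (inv_ne_zero (Nat.cast_ne_zero.2 Nat.card_pos.ne')), ← hT] at hv
    have hv' : ∑ x : zpowers a, (χ : G → ℂ) ((x : G) * ζ ^ j) * conj (f (x * g ^ j) : ℂ) = T := by
      rw [← hv]
      refine Fintype.sum_equiv (Equiv.mulRight (g ^ j)) _ _ fun x => ?_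
      simp only [Equiv.coe_mulRight, coe_mul, coe_zpow]
      rw [hζ, ((show Commute a l from hcomm l hl).zpow_left k).mul_zpow, ← mul_assoc]
    have hfg : conj (f (g ^ j) : ℂ) = (c ^ j)⁻¹ := by
      have e := SuzukiWong.norm_linear f (g ^ j)
      rw [map_zpow, Units.val_zpow_eq_zpow_val] at e ⊢
      exact eq_inv_of_mul_eq_one_right e
    have hc0 : c ^ j ≠ 0 := zpow_ne_zero _ (Units.ne_zero _)
    have hG : ∑ x : zpowers a, (χ : G → ℂ) ((x : G) * ζ ^ j) * conj (f x : ℂ) = c ^ j * T := by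
      rw [← hv', Finset.mul_sum]
      refine Finset.sum_congr rfl fun x _ => ?_
      rw [map_mul, Units.val_mul, map_mul, hfg]
      field_simp
    have hdiff : ∑ x : zpowers a, ((χ : G → ℂ) ((x : G) * ζ ^ j) * conj (f x : ℂ) -
        (χ : G → ℂ) x * conj (f x : ℂ)) = (χ : G → ℂ) (ζ ^ j) - (χ : G → ℂ) 1 := by
      rw [Finset.sum_eq_single (1 : zpowers a) (fun x _ hx => by rw [hshift x hx j, sub_self])
        (fun h => absurd (Finset.mem_univ _) h)]
      simp
    rw [Finset.sum_sub_distrib, hG, ← hT] at hdiff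
    rw [← hdiff]
    ring
  have h1 := key 1
  have h2 := key (-1)
  rw [zpow_one, zpow_one] at h1
  rw [zpow_neg_one, zpow_neg_one, ← hw, isClassFunction_of_isIrr χ.2 ζ w] at h2
  rw [h1] at h2
  have hcr : c ^ r = 1 := by
    rw [hc, ← Units.val_pow_eq_pow_val, ← map_pow]
    have : g ^ r = 1 := by
      rw [← ha, ← Nat.card_zpowers, pow_card_eq_one']
    rw [this, map_one, Units.val_one]
  have hcne : c ≠ 0 := Units.ne_zero _
  rcases mul_eq_mul_left_iff.1 h2 with h3 | h3
  · -- `c = c⁻¹` forces `c = 1`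
    have hc2 : c ^ 2 = 1 := by
      rw [sub_left_inj] at h3
      calc c ^ 2 = c * c := sq c
        _ = c⁻¹ * c := by rw [← h3]
        _ = 1 := inv_mul_cancel₀ hcne
    obtain ⟨j, hj⟩ := hr.odd_of_ne_two hr2
    rw [hj, pow_succ, pow_mul, hc2, one_pow, one_mul] at hcr
    rw [hcr, sub_self, mul_zero, sub_eq_zero] at h1
    exact hfaith h1
  · rw [h3, zero_mul, sub_eq_zero] at h1
    exact hfaith h1

end CfsgLib.GW.PhiTrick
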