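import Cfsg.Agent.SuzukiWong.TI
import Cfsg.Agent.SuzukiWong.Coeff
import Cfsg.Agent.Small.Dihedral

/-!
# Gorenstein–Walter, Φ-trick: the induced function of norm four

`N = A × L` is the normalizer of the subgroup of order `r` of the odd cyclic group `A`.  A
generalized character `φ` of `L` of norm two, supported on elements killed by an odd exponent prime
to `r`, gives the generalized character `Ind ((1 - ν) ⊗ φ)` of norm four vanishing on all elements of
even order, with no pairs of involutions.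
-/

set_option autoImplicit false
set_option linter.unusedSectionVars false
set_option linter.style.haveILetI false

namespace CfsgLib.GW.PhiTrick

open Cfsg CfsgLib.Characters CfsgLib.SuzukiWong CfsgLib.CharactersDeep.ClassPairs Subgroup
open scoped ComplexConjugate

universe u

variable {G : Type u} [Group G] [Fintype G]

/-- The product of two commuting subgroups. -/
def prodHom (A L : Subgroup G) (hcomm : ∀ a ∈ A, ∀ l ∈ L, a * l = l * a) : A × L →* G where
  toFun p := (p.1 : G) * p.2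
  map_one' := mul_one 1
  map_mul' p q := by
    show (p.1 : G) * q.1 * ((p.2 : G) * q.2) = (p.1 : G) * p.2 * ((q.1 : G) * q.2)
    rw [mul_assoc, ← mul_assoc (q.1 : G), hcomm q.1 q.1.2 p.2 p.2.2]
    group

open Classical in
set_option maxHeartbeats 400000 in
/-- **The induced function.** -/
theorem exists_induced {N A L : Subgroup G} (hAN : A ≤ N) (hLN : L ≤ N)
    (hcomm : ∀ a ∈ A, ∀ l ∈ L, a * l = l * a) (hdisj : ∀ a ∈ A, a ∈ L → a = 1)
    (hgen : ∀ n ∈ N, ∃ a ∈ A, ∃ l ∈ L, n = a * l) (hA : Odd (Nat.card A)) [IsCyclic A]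
    {r : ℕ} (hr : r.Prime) {a₀ : G} (ha₀ : a₀ ∈ A) (hord : orderOf a₀ = r)
    (hnorm : normalizer (zpowers a₀ : Set G) ≤ N) [Fintype L] {φ : L → ℂ}
    (hφ : IsGeneralizedCharacter L φ) {e : ℕ} (he : Odd e) (her : r.Coprime e)
    (hsupp : ∀ l : L, φ l ≠ 0 → l ^ e = 1) (h2 : classInner φ φ = 2)
    (htriv : classInner φ (fun _ => 1) = 1 ∨ classInner φ (fun _ => 1) = -1)
    {t : G} (ht : orderOf t = 2) :
    ∃ Φ : G → ℂ, IsGeneralizedCharacter G Φ ∧ (∀ g : G, Even (orderOf g) → Φ g = 0) ∧ Φ 1 = 0 ∧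
      classInner Φ Φ = 4 ∧ (classInner Φ (fun _ => 1) = 1 ∨ classInner Φ (fun _ => 1) = -1) ∧
      ∑ χ : IrrCharacter G, classInner Φ (χ : G → ℂ) * (χ : G → ℂ) t ^ 2 / (χ : G → ℂ) 1 = 0 := by
  haveI := Fintype.ofFinite N
  haveI := Fintype.ofFinite A
  set ρ := prodHom A L hcomm with hρ
  have hρinj : Function.Injective ρ := (injective_iff_map_eq_one _).2 fun p hp => by
    change (p.1 : G) * p.2 = 1 at hp
    have h1 : (p.1 : G) ∈ L := by
      rw [show (p.1 : G) = (p.2 : G)⁻¹ from mul_eq_one_iff_eq_inv.1 hp]; exact inv_mem p.2.2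
    have h2 := hdisj _ p.1.2 h1
    rw [h2, one_mul] at hp
    exact Prod.ext (Subtype.ext h2) (Subtype.ext hp)
  have hrange : ρ.range = N := by
    ext n
    refine ⟨?_, fun hn => ?_⟩
    · rintro ⟨p, rfl⟩; exact mul_mem (hAN p.1.2) (hLN p.2.2)
    · obtain ⟨a, ha, l, hl, rfl⟩ := hgen n hn
      exact ⟨(⟨a, ha⟩, ⟨l, hl⟩), rfl⟩
  let E : A × L ≃* N := (MonoidHom.ofInjective hρinj).trans (MulEquiv.subgroupCongr hrange)
  have hE : ∀ p : A × L, (E p : G) = (p.1 : G) * p.2 := fun p => rfl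
  -- the linear character
  obtain ⟨g, hg⟩ := IsCyclic.exists_generator (α := A)
  have hgo : orderOf g = Nat.card A := orderOf_eq_card_of_forall_mem_zpowers hg
  have hra : r ∣ Nat.card A := hord ▸ A.orderOf_dvd_natCard ha₀
  obtain ⟨k, hk⟩ := hra
  have hkodd : Odd k := (Nat.odd_mul.1 (hk ▸ hA)).2
  obtain ⟨ζ, hζ⟩ : ∃ ζ : ℂ, IsPrimitiveRoot ζ r :=
    ⟨_, Complex.isPrimitiveRoot_exp r hr.ne_zero⟩
  let w : ℂˣ := (hζ.isUnit hr.ne_zero).unit
  have hw : orderOf w = r := by
    rw [← orderOf_units]; exact hζ.eq_orderOf.symm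
  let ν : A →* ℂˣ := monoidHomOfForallMemZpowers hg (g' := w) (by rw [hw, hgo, hk]; exact dvd_mul_right r k)
  have hνg : ν g = w := monoidHomOfForallMemZpowers_apply_gen hg _
  have hν : ∀ x : A, ν x = 1 ↔ x ^ k = 1 := by
    intro x
    obtain ⟨i, rfl⟩ := mem_zpowers_iff.1 (hg x)
    rw [map_zpow, hνg, ← orderOf_dvd_iff_zpow_eq_one, ← zpow_natCast (g ^ i), ← zpow_mul,
      ← orderOf_dvd_iff_zpow_eq_one, hw, hgo, hk, Nat.cast_mul,
      mul_dvd_mul_iff_right (Nat.cast_ne_zero.2 hkodd.pos.ne')]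
  -- elements outside the kernel generate `⟨a₀⟩` after the power `k`
  have hsq : ∀ x : A, x ^ k ≠ 1 → orderOf ((x : G) ^ k) = r ∧ zpowers ((x : G) ^ k) = zpowers a₀ := by
    intro x hx
    haveI : Fact r.Prime := ⟨hr⟩
    have hgk : orderOf ((g : G) ^ k) = r := by
      rw [← Subgroup.coe_pow, orderOf_coe, orderOf_pow' g hkodd.pos.ne', hgo, hk,
        Nat.gcd_eq_right (dvd_mul_left k r), Nat.mul_div_cancel _ hkodd.pos]
    have h1 : orderOf ((x : G) ^ k) = r := by
      refine orderOf_eq_prime ?_ fun h => hx (Subtype.ext h)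
      rw [← pow_mul, mul_comm, ← hk, ← Subgroup.coe_pow, pow_card_eq_one', Subgroup.coe_one]
    have hmem : ∀ y : A, orderOf (y : G) ∣ r → (y : G) ∈ zpowers ((g : G) ^ k) := by
      intro y hy
      obtain ⟨i, rfl⟩ := mem_zpowers_iff.1 (hg y)
      rw [orderOf_dvd_iff_pow_eq_one, ← Subgroup.coe_pow, OneMemClass.coe_eq_one, ← zpow_natCast,
        ← zpow_mul, ← orderOf_dvd_iff_zpow_eq_one, hgo, hk, Nat.cast_mul, mul_comm i,
        mul_dvd_mul_iff_left (Nat.cast_ne_zero.2 hr.ne_zero)] at hy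
      obtain ⟨j, rfl⟩ := hy
      exact ⟨j, by simp [zpow_mul]⟩
    have e1 : zpowers ((x : G) ^ k) = zpowers ((g : G) ^ k) := eq_of_le_of_card_ge
      (zpowers_le.2 (by
        have := hmem (x ^ k) (by rw [Subgroup.coe_pow, h1])
        rwa [Subgroup.coe_pow] at this))
      (by rw [Nat.card_zpowers, Nat.card_zpowers, hgk, h1])
    have e2 : zpowers a₀ = zpowers ((g : G) ^ k) := eq_of_le_of_card_ge
      (zpowers_le.2 (hmem ⟨a₀, ha₀⟩ (by rw [hord])))
      (by rw [Nat.card_zpowers, Nat.card_zpowers, hgk, hord])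
    exact ⟨h1, e1.trans e2.symm⟩
  set D : Set G := {d | ∃ p : A × L, p.1 ^ k ≠ 1 ∧ p.2 ^ e = 1 ∧ d = (p.1 : G) * p.2} with hD
  -- the power carrying `D` into `⟨a₀⟩`
  have hpow : ∀ d ∈ D, zpowers (d ^ (k * e)) = zpowers a₀ := by
    rintro d ⟨⟨x, l⟩, hx, hl, rfl⟩
    have hle : (l : G) ^ (k * e) = 1 := by
      rw [mul_comm, pow_mul, ← Subgroup.coe_pow, hl, Subgroup.coe_one, one_pow]
    obtain ⟨h1, h2⟩ := hsq x hx
    show zpowers (((x : G) * l) ^ (k * e)) = _
    rw [(show Commute (x : G) l from hcomm x x.2 l l.2).mul_pow, hle, mul_one, pow_mul, ← h2]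
    refine eq_of_le_of_card_ge (zpowers_le.2 (pow_mem (mem_zpowers _) e)) ?_
    rw [Nat.card_zpowers, Nat.card_zpowers, (show orderOf (((x : G) ^ k) ^ e) = r by
      rw [Nat.Coprime.orderOf_pow (h1.symm ▸ her), h1]), h1]
  have hmemN : ∀ g : G, ∀ d ∈ D, ∀ d' ∈ D, g * d ^ (k * e) * g⁻¹ ∈ zpowers (d' ^ (k * e)) →
      g ∈ N := by
    intro g d hd d' hd' hg'
    rw [hpow d' hd'] at hg'
    refine hnorm (mem_normalizer_fintype fun y hy => ?_)
    rw [SetLike.mem_coe, ← hpow d hd] at hy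
    obtain ⟨i, rfl⟩ := mem_zpowers_iff.1 hy
    rw [SetLike.mem_coe, ← conj_zpow]
    exact zpow_mem hg' i
  have hTI : TI N N D := by
    refine ⟨le_rfl, fun n hn x hx => mul_mem (mul_mem hn hx) (inv_mem hn), ?_, ?_, ?_⟩
    · rintro d ⟨p, -, -, rfl⟩; exact mul_mem (hAN p.1.2) (hLN p.2.2)
    · rintro n hn d ⟨⟨x, l⟩, hx, hl, rfl⟩
      obtain ⟨q, hq⟩ := E.surjective ⟨n, hn⟩
      have hq' : ρ q = n := congrArg Subtype.val hq
      have hxq : (q * (x, l) * q⁻¹).1 = x := by
        show q.1 * x * q.1⁻¹ = x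
        obtain ⟨i, hi⟩ := mem_zpowers_iff.1 (hg x)
        obtain ⟨j, hj⟩ := mem_zpowers_iff.1 (hg q.1)
        rw [← hi, ← hj, ((Commute.refl g).zpow_zpow j i).eq, mul_inv_cancel_right]
      refine ⟨q * (x, l) * q⁻¹, by rwa [hxq], ?_, ?_⟩
      · show (q.2 * l * q.2⁻¹) ^ e = 1
        rw [conj_pow, hl, mul_one, mul_inv_cancel]
      · show n * ((x : G) * l) * n⁻¹ = ρ (q * (x, l) * q⁻¹)
        rw [map_mul, map_mul, map_inv, hq']
        rfl
    · intro d hd g' hg'
      refine hmemN g' d hd _ hg' ?_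
      rw [← conj_pow]
      exact mem_zpowers _
  set α : N → ℂ := fun n => (1 - (ν (E.symm n).1 : ℂ)) * φ (E.symm n).2 with hα
  have hαgen : IsGeneralizedCharacter N α :=
    isGen_mul (θ := fun n : N => (1 - (ν (E.symm n).1 : ℂ))) (η := fun n : N => φ (E.symm n).2)
      (isGen_sub isGen_one
        (isGen_of_isIrr (isIrr_linChar (ν.comp ((MonoidHom.fst A L).comp E.symm.toMonoidHom)))))
      (isGen_comp ((MonoidHom.snd A L).comp E.symm.toMonoidHom) hφ)
  have hαsupp : SuppOn D α := fun n hn => by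
    by_contra hne
    simp only [hα, mul_eq_zero, sub_eq_zero, not_or] at hne
    refine hn ⟨E.symm n, fun hx => hne.1 ?_, hsupp _ hne.2, ?_⟩
    · rw [(hν _).2 hx, Units.val_one]
    · conv_lhs => rw [← E.apply_symm_apply n, hE]
  have hodd : ∀ d ∈ D, Odd (orderOf d) := by
    rintro d ⟨⟨x, l⟩, -, hl, rfl⟩
    refine (hA.mul he).of_dvd_nat (orderOf_dvd_of_pow_eq_one ?_)
    show ((x : G) * l) ^ _ = 1
    rw [(show Commute (x : G) l from hcomm x x.2 l l.2).mul_pow, pow_mul, pow_mul',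
      show (l : G) ^ e = 1 from congrArg Subtype.val (show l ^ e = 1 from hl), one_pow, mul_one,
      ← Subgroup.coe_pow, pow_card_eq_one']
    simp
  -- inner products on `A × L`
  have hprod : ∀ (f f' : A → ℂ) (η η' : L → ℂ),
      classInner (fun n : N => f (E.symm n).1 * η (E.symm n).2)
        (fun n : N => f' (E.symm n).1 * η' (E.symm n).2) = classInner f f' * classInner η η' := by
    intro f f' η η'
    simp only [classInner]
    rw [← Nat.card_congr E.toEquiv, Nat.card_prod, Nat.cast_mul, mul_inv,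
      ← Fintype.sum_equiv E.toEquiv (fun p : A × L => f p.1 * η p.2 * conj (f' p.1 * η' p.2)) _
        fun p => by simp, Fintype.sum_prod_type]
    simp only [Finset.mul_sum, Finset.sum_mul, map_mul]
    rw [Finset.sum_comm]
    exact Finset.sum_congr rfl fun l _ => Finset.sum_congr rfl fun x _ => by ring
  have hν1 : (fun x : A => (ν x : ℂ)) ≠ fun _ => 1 := fun h => by
    have h1 : ν g = 1 := Units.ext (by simpa using congrFun h g)
    rw [hνg] at h1
    rw [h1, orderOf_one] at hw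
    exact hr.one_lt.ne hw
  have hA2 : classInner (fun x : A => 1 - (ν x : ℂ)) (fun x : A => 1 - (ν x : ℂ)) = 2 := by
    have e1 : (fun x : A => 1 - (ν x : ℂ)) = (fun _ => 1) - fun x => (ν x : ℂ) := rfl
    rw [e1, classInner_sub_left, classInner_sub_right, classInner_sub_right,
      classInner_isIrr_self isIrr_one, classInner_isIrr_self (isIrr_linChar ν),
      classInner_isIrr_ne isIrr_one (isIrr_linChar ν) hν1.symm,
      classInner_isIrr_ne (isIrr_linChar ν) isIrr_one hν1]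
    norm_num
  have hA1 : classInner (fun x : A => 1 - (ν x : ℂ)) (fun _ => 1) = 1 := by
    have e1 : (fun x : A => 1 - (ν x : ℂ)) = (fun _ => 1) - fun x => (ν x : ℂ) := rfl
    rw [e1, classInner_sub_left, classInner_isIrr_self isIrr_one,
      classInner_isIrr_ne (isIrr_linChar ν) isIrr_one hν1, sub_zero]
  have hα0 : α 1 = 0 := by simp [hα]
  refine ⟨indFun N α, isGen_indFun N hαgen, fun x hx => ?_, ?_, ?_, ?_, ?_⟩
  · simp only [indFun]
    rw [Finset.sum_eq_zero fun y _ => ?_, mul_zero]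
    refine ext_supp hαsupp fun hy => ?_
    have h := hodd _ hy
    rw [show y⁻¹ * x * y = y⁻¹ * x * (y⁻¹)⁻¹ by rw [inv_inv], Small.orderOf_conj_eq] at h
    exact Nat.not_even_iff_odd.2 h hx
  · rw [indFun_one, hα0, mul_zero]
  · rw [hTI.inner hαsupp hαsupp, Finset.sum_congr rfl (g := fun x : G => if x ∈ N then (4 : ℂ) else 0)
      fun x _ => ?_]
    · rw [← Finset.sum_filter, Finset.sum_const, nsmul_eq_mul]
      have hcard : (Finset.univ.filter fun x : G => x ∈ N).card = Nat.card N := by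
        rw [← Set.ncard_coe_finset, ← Nat.card_coe_set_eq]; simp
      rw [hcard, ← mul_assoc, inv_mul_cancel₀ (subgroup_card_ne_zero N), one_mul]
    split_ifs with hxN
    · have e2 : conjOn N x α = α := by
        funext n
        simp only [conjOn]
        rw [extendByZero_of_mem _ _ (mul_mem (mul_mem (inv_mem hxN) n.2) hxN)]
        have := isClassFunction_of_isGen hαgen n (⟨x, hxN⟩⁻¹ : N)
        rw [inv_inv] at this
        exact this
      rw [e2]
      refine (hprod (fun x => 1 - (ν x : ℂ)) (fun x => 1 - (ν x : ℂ)) φ φ).trans ?_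
      rw [hA2, h2]
      norm_num
    · rfl
  · rw [classInner_indFun N α (isClassFunction_of_isIrr isIrr_one)]
    have e3 : classInner α (fun _ : N => (1 : ℂ)) = classInner φ (fun _ => 1) := by
      have h := hprod (fun x => 1 - (ν x : ℂ)) (fun _ => 1) φ (fun _ => 1)
      simp only [one_mul] at h
      rw [hA1, one_mul] at h
      exact h
    rw [e3]
    exact htriv
  · have htt : t * t = 1 := Small.mul_self_of_orderOf_two ht
    have hinv : ∀ d ∈ D, ∀ i : G, IsConj t i → i * d * i⁻¹ = d⁻¹ → i ∈ N := by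
      intro d hd i _ hi
      refine hmemN i d hd d hd ?_
      rw [← conj_pow, hi, inv_pow]
      exact inv_mem (mem_zpowers _)
    have h := hTI.pairs hαsupp htt hinv
    rw [pair_count (isClassFunction_indFun N α), Finset.sum_eq_zero (s := inM N t ×ˢ inM N t)
      fun p hp => ?_, mul_zero, mul_eq_zero] at h
    · refine h.resolve_left ?_
      refine pow_ne_zero 2 (Nat.cast_ne_zero.2 (Finset.card_pos.2 ⟨t, ?_⟩).ne')
      exact mem_classSet.2 (IsConj.refl t)
    obtain ⟨h1, h2⟩ := Finset.mem_product.1 hp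
    have hfst : ∀ i : N, (i : G) * i = 1 → (E.symm i).1 = 1 := by
      intro i hi
      have h' : (E.symm i).1 * (E.symm i).1 = 1 := by
        rw [← Prod.fst_mul, ← map_mul, show i * i = 1 from Subtype.ext hi, map_one, Prod.fst_one]
      refine orderOf_eq_one_iff.1 (Nat.eq_one_of_dvd_coprimes (Nat.coprime_two_left.2 hA)
        (orderOf_dvd_of_pow_eq_one (by rw [sq, h'])) (orderOf_dvd_natCard _))
    obtain ⟨c1, hn1⟩ := mem_inM.1 h1
    obtain ⟨c2, hn2⟩ := mem_inM.1 h2
    have hn : p.1 * p.2 ∈ N := mul_mem hn1 hn2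
    rw [extendByZero_of_mem _ _ hn]
    have e4 : (E.symm ⟨p.1 * p.2, hn⟩).1 = 1 := by
      rw [show (⟨p.1 * p.2, hn⟩ : N) = ⟨p.1, hn1⟩ * ⟨p.2, hn2⟩ from rfl, map_mul, Prod.fst_mul,
        hfst ⟨p.1, hn1⟩ (mul_self_of_isConj htt c1), hfst ⟨p.2, hn2⟩ (mul_self_of_isConj htt c2),
        one_mul]
    simp [hα, e4]

end CfsgLib.GW.PhiTrick
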