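import Cfsg.Agent.SL2CharTable.Apply
import Cfsg.Agent.SL2Trace.Order
import Cfsg.Agent.Characters.Generalized

/-!
# Gorenstein–Walter, Φ-trick: the function of norm two on `PSL(2,q)`

`St - ε`, `q ≡ ε (mod 4)`, is supported on the identity, the unipotent elements and the torus of odd
order `(q + ε) / 2`; nontrivial irreducible characters have degree at least `(q - 1) / 2`.
-/

set_option autoImplicit false
set_option linter.unusedSectionVars false
set_option linter.style.haveILetI false

namespace CfsgLib.GW.PhiTrick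

open Matrix CfsgLib.SL2CharTable CfsgLib.SL2Borel CfsgLib.SL2Tori CfsgLib.Characters
open scoped MatrixGroups ComplexConjugate

universe u

variable {L : Type u} [Group L] [Fintype L] {F : Type} [Field F] [Fintype F] [DecidableEq F]

/-- The covering map. -/
noncomputable def cover (f : L ≃* Matrix.ProjectiveSpecialLinearGroup (Fin 2) F) : SL(2, F) →* L :=
  f.symm.toMonoidHom.comp (QuotientGroup.mk' (Subgroup.center SL(2, F)))

theorem cover_surjective (f : L ≃* Matrix.ProjectiveSpecialLinearGroup (Fin 2) F) :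
    Function.Surjective (cover f) :=
  f.symm.surjective.comp (QuotientGroup.mk'_surjective _)

theorem cover_eq_one_iff (f : L ≃* Matrix.ProjectiveSpecialLinearGroup (Fin 2) F) (g : SL(2, F)) :
    cover f g = 1 ↔ g = 1 ∨ g = -1 := by
  rw [← SL2Trace.proj_eq_one_iff]
  exact MulEquiv.map_eq_one_iff f.symm

theorem cover_eq (f : L ≃* Matrix.ProjectiveSpecialLinearGroup (Fin 2) F) (g : SL(2, F)) :
    cover f g = f.symm (SL2Trace.proj g) := rfl

/-- Inner products pulled back along a surjective map. -/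
theorem classInner_comp {H K : Type*} [Group H] [Group K] [Fintype H] [Fintype K] (p : H →* K)
    (hp : Function.Surjective p) (φ ψ : K → ℂ) :
    Cfsg.classInner (fun h => φ (p h)) (fun h => ψ (p h)) = Cfsg.classInner φ ψ := by
  classical
  have hfib : ∀ k : K, (Finset.univ.filter fun h => p h = k).card = Nat.card p.ker := by
    intro k
    obtain ⟨h₀, rfl⟩ := hp k
    rw [← Set.ncard_coe_finset, ← Nat.card_coe_set_eq]
    refine Nat.card_congr (Equiv.subtypeEquiv (Equiv.mulLeft h₀⁻¹) fun h => ?_)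
    simp only [Finset.mem_coe, Finset.mem_filter, Finset.mem_univ, true_and, Equiv.coe_mulLeft,
      MonoidHom.mem_ker, map_mul, map_inv, inv_mul_eq_one]
    exact eq_comm
  have hcard : Nat.card H = Nat.card K * Nat.card p.ker := by
    have e := Finset.card_eq_sum_card_fiberwise (f := fun h => p h) (s := Finset.univ)
      (t := (Finset.univ : Finset K)) fun _ _ => Finset.mem_univ _
    rw [Finset.sum_congr rfl fun k _ => hfib k, Finset.sum_const, smul_eq_mul, Finset.card_univ,
      Finset.card_univ, ← Nat.card_eq_fintype_card, ← Nat.card_eq_fintype_card] at e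
    exact e
  have hsum : ∑ h : H, φ (p h) * conj (ψ (p h)) =
      (Nat.card p.ker : ℂ) * ∑ k : K, φ k * conj (ψ k) := by
    rw [← Finset.sum_fiberwise_of_maps_to (g := fun h => p h) (t := (Finset.univ : Finset K))
      fun _ _ => Finset.mem_univ _, Finset.mul_sum]
    refine Finset.sum_congr rfl fun k _ => ?_
    rw [Finset.sum_congr rfl (g := fun _ => φ k * conj (ψ k)) fun h hh => by
      rw [(Finset.mem_filter.1 hh).2], Finset.sum_const, hfib, nsmul_eq_mul]
  simp only [Cfsg.classInner]
  rw [hsum, hcard]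
  have : (Nat.card p.ker : ℂ) ≠ 0 := Nat.cast_ne_zero.2 Nat.card_pos.ne'
  push_cast
  field_simp

/-- Nontrivial irreducible characters have degree at least `(q - 1) / 2`. -/
theorem degree_ge (f : L ≃* Matrix.ProjectiveSpecialLinearGroup (Fin 2) F)
    (hF : Odd (Fintype.card F)) {χ : L → ℂ} (hχ : Cfsg.IsIrrCharacter L χ) (hne : χ ≠ fun _ => 1)
    {n : ℕ} (hn : χ 1 = n) : (Fintype.card F - 1) / 2 ≤ n := by
  obtain ⟨Tr, h2, ⟨H⟩⟩ := exists_table hF
  have hq := Fintype.one_lt_card (α := F)
  rcases H.cases (isIrr_comp (cover f) (cover_surjective f) hχ) with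
    ⟨e, -⟩ | ⟨-, e⟩ | ⟨_, -, -, e⟩ | ⟨_, -, -, e⟩ | ⟨-, e⟩ | ⟨-, e⟩
  · refine absurd (funext fun l => ?_) hne
    obtain ⟨g, rfl⟩ := cover_surjective f l
    exact congrFun e g
  all_goals
    rw [map_one, hn, Nat.cast_inj] at e
    omega

/-- **The function of norm two.** -/
theorem exists_norm_two (f : L ≃* Matrix.ProjectiveSpecialLinearGroup (Fin 2) F)
    (hF : Odd (Fintype.card F)) {r : ℕ} (hr : r.Prime) (hr2 : r ≠ 2)
    (hrq : (Fintype.card F % 4 = 1 ∧ r ∣ Fintype.card F - 1) ∨
      (Fintype.card F % 4 = 3 ∧ r ∣ Fintype.card F + 1)) :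
    ∃ (φ : L → ℂ) (e : ℕ), Cfsg.IsGeneralizedCharacter L φ ∧ Odd e ∧ r.Coprime e ∧
      (∀ l : L, φ l ≠ 0 → l ^ e = 1) ∧ Cfsg.classInner φ φ = 2 ∧
      (Cfsg.classInner φ (fun _ => 1) = 1 ∨ Cfsg.classInner φ (fun _ => 1) = -1) := by
  classical
  obtain ⟨p, hp⟩ := CharP.exists F
  obtain ⟨n, hpp, hpq⟩ := FiniteField.card F p
  haveI := Fact.mk hpp
  have h2 := two_ne_zero_of_odd hF
  set q := Fintype.card F with hq
  have hq1 : 1 < q := Fintype.one_lt_card
  obtain ⟨ε, hε⟩ : ∃ ε : ℤ, (q % 4 = 1 ∧ ε = 1) ∨ (q % 4 = 3 ∧ ε = -1) := by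
    rcases hrq with ⟨h, -⟩ | ⟨h, -⟩
    exacts [⟨1, Or.inl ⟨h, rfl⟩⟩, ⟨-1, Or.inr ⟨h, rfl⟩⟩]
  -- `e = p (q + ε) / 2`
  set m := if q % 4 = 1 then (q + 1) / 2 else (q - 1) / 2 with hm
  have hpodd : Odd p := by
    rcases hpp.eq_two_or_odd' with rfl | h
    · exact absurd (hpq ▸ hF) (Nat.not_odd_iff_even.2 (Nat.even_pow.2 ⟨even_two, n.pos.ne'⟩))
    · exact h
  have hrp : r.Coprime p := by
    refine (Nat.coprime_primes hr hpp).2 fun h => ?_
    subst h
    have hdvd : r ∣ q := hpq ▸ dvd_pow_self r n.pos.ne'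
    rcases hrq with ⟨-, h⟩ | ⟨-, h⟩
    · have := Nat.dvd_sub hdvd h
      rw [show q - (q - 1) = 1 by omega] at this
      exact hr.not_dvd_one this
    · have := Nat.dvd_sub h hdvd
      rw [show q + 1 - q = 1 by omega] at this
      exact hr.not_dvd_one this
  have hrm : r.Coprime m := by
    rw [hr.coprime_iff_not_dvd]
    intro h
    have h' : r ∣ 2 * m := h.mul_left 2
    have h3 : r ∣ 2 := by
      rcases hrq with ⟨hm4, hd⟩ | ⟨hm4, hd⟩
      · rw [hm, if_pos hm4, show 2 * ((q + 1) / 2) = q + 1 by omega] at h'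
        have := Nat.dvd_sub h' hd
        rwa [show q + 1 - (q - 1) = 2 by omega] at this
      · rw [hm, if_neg (by omega), show 2 * ((q - 1) / 2) = q - 1 by omega] at h'
        have := Nat.dvd_sub hd h'
        rwa [show q + 1 - (q - 1) = 2 by omega] at this
    exact hr2 ((Nat.prime_dvd_prime_iff_eq hr Nat.prime_two).1 h3)
  have hmodd : Odd m := by
    rw [Nat.odd_iff, hm]
    rcases hε with ⟨h, -⟩ | ⟨h, -⟩
    · rw [if_pos h]; omega
    · rw [if_neg (by omega)]; omega
  -- `St` is trivial on the centre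
  have hStneg : ∀ g : SL(2, F), (St : SL(2, F) → ℂ) (-g) = St g := by
    intro g
    have h := central_mul (isIrr_St h2) SL2Trace.neg_one_mem_center g
    have hneg : (St : SL(2, F) → ℂ) (-1) = (q : ℂ) := by
      rw [← mk_neg_one_zero, St, R_central _ (Or.inr rfl)]
      simp [hq]
    rw [neg_one_mul, hneg, St_one, mul_comm _ (q : ℂ)] at h
    exact mul_left_cancel₀ (Nat.cast_ne_zero.2 (by omega : q ≠ 0)) h
  set s := Function.surjInv (cover_surjective f) with hs
  let φ : L → ℂ := fun l => (St : SL(2, F) → ℂ) (s l) - (ε : ℂ)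
  have hφ : ∀ g : SL(2, F), φ (cover f g) = (St : SL(2, F) → ℂ) g - (ε : ℂ) := by
    intro g
    have h : cover f ((s (cover f g)) * g⁻¹) = 1 := by
      rw [map_mul, map_inv, hs, Function.surjInv_eq (cover_surjective f), mul_inv_cancel]
    show (St : SL(2, F) → ℂ) (s (cover f g)) - _ = _
    rcases (cover_eq_one_iff f _).1 h with h1 | h1
    · rw [mul_inv_eq_one.1 h1]
    · rw [mul_inv_eq_iff_eq_mul.1 h1, neg_one_mul, hStneg]
  have hcls : Cfsg.IsClassFunction L φ := by
    intro l x
    obtain ⟨g, rfl⟩ := cover_surjective f l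
    obtain ⟨y, rfl⟩ := cover_surjective f x
    rw [← map_inv, ← map_mul, ← map_mul, hφ, hφ, isClassFunction_of_isIrr (isIrr_St h2) g y]
  have hpull : (fun g => φ (cover f g)) = (St : SL(2, F) → ℂ) - fun _ => (ε : ℂ) := funext hφ
  have hgenST : Cfsg.IsGeneralizedCharacter SL(2, F) (fun g => φ (cover f g)) := by
    rw [hpull]
    refine isGen_sub (isGen_of_isIrr (isIrr_St h2)) ?_
    have : (fun _ : SL(2, F) => (ε : ℂ)) = (ε : ℂ) • fun _ => (1 : ℂ) := by funext; simp
    rw [this]
    exact isGen_zsmul isGen_one ε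
  have hne : (St : SL(2, F) → ℂ) ≠ fun _ => 1 := fun h => by
    have := congrFun h 1
    rw [St_one, Nat.cast_eq_one] at this
    omega
  have hStone : Cfsg.classInner (St : SL(2, F) → ℂ) (fun _ => 1) = 0 :=
    classInner_isIrr_ne (isIrr_St h2) isIrr_one hne
  have hone : Cfsg.classInner (fun _ : SL(2, F) => (1 : ℂ)) (St : SL(2, F) → ℂ) = 0 :=
    classInner_isIrr_ne isIrr_one (isIrr_St h2) (Ne.symm hne)
  have hεc : (fun _ : SL(2, F) => (ε : ℂ)) = (ε : ℂ) • fun _ => (1 : ℂ) := by funext; simp
  refine ⟨φ, p * m, ?_, hpodd.mul hmodd, hrp.mul_right hrm, ?_, ?_, ?_⟩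
  · refine isGen_of_classInner hcls fun χ => ?_
    obtain ⟨z, hz⟩ := classInner_gen hgenST
      (isGen_of_isIrr (isIrr_comp (cover f) (cover_surjective f) χ.2))
    exact ⟨z, (classInner_comp (cover f) (cover_surjective f) φ _).symm.trans hz⟩
  · intro l hl
    obtain ⟨g, rfl⟩ := cover_surjective f l
    rw [hφ] at hl
    by_cases hroot : ∃ c : F, c ^ 2 + tr g * c + 1 = 0
    · obtain ⟨c, hc⟩ := hroot
      obtain ⟨a, x, hconj⟩ := exists_mk g hc
      obtain ⟨k, hk⟩ := isConj_iff.1 hconj
      have hSt : (St : SL(2, F) → ℂ) g = St (mk a x) :=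
        classFun_congr (isClassFunction_of_isIrr (isIrr_St h2)) hconj
      rw [← hk, map_mul, map_mul, map_inv, conj_pow]
      suffices h : cover f (mk a x) ^ (p * m) = 1 by rw [h, mul_one, mul_inv_cancel]
      by_cases ha : a ^ 2 = 1
      · have ha' : a = 1 ∨ a = -1 := by
          have : (a : F) = 1 ∨ (a : F) = -1 := sq_eq_one_iff.1 (by
            rw [← Units.val_pow_eq_pow_val, ha, Units.val_one])
          rcases this with e | e
          · exact Or.inl (Units.ext e)
          · exact Or.inr (Units.ext (by rw [e]; rfl))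
        have ht : Matrix.trace (mk a x : Matrix (Fin 2) (Fin 2) F) ^ 2 = 4 := by
          show tr (mk a x) ^ 2 = 4
          rw [tr_mk]
          rcases ha' with rfl | rfl <;> simp <;> norm_num
        rw [cover_eq, ← map_pow, pow_mul, SL2Trace.proj_pow_char_eq_one p _ ht, one_pow, map_one]
      · rw [hSt, St_regular ha] at hl
        rcases hε with ⟨h4, rfl⟩ | ⟨h4, rfl⟩
        · simp at hl
        · have he : m = (q - 1) / 2 := by rw [hm, if_neg (by omega)]
          have hsq : mk a x ^ m * mk a x ^ m = 1 := by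
            rw [← pow_add, show m + m = q - 1 by omega]
            exact mk_regular_pow ha x
          rw [mul_comm p m, pow_mul, ← map_pow]
          rw [(cover_eq_one_iff f _).2 (eq_one_or_neg_one_of_sq h2 hsq), one_pow]
    · simp only [not_exists] at hroot
      rw [St_nonsplit hroot] at hl
      rcases hε with ⟨h4, rfl⟩ | ⟨h4, rfl⟩
      · have he : m = (q + 1) / 2 := by rw [hm, if_pos h4]
        have hsq : g ^ m * g ^ m = 1 := by
          rw [← pow_add, show m + m = q + 1 by omega]
          refine SL2Trace.pow_card_add_one g (tr g) rfl fun c hc => hroot (-c) ?_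
          linear_combination hc
        rw [mul_comm p m, pow_mul, ← map_pow,
          (cover_eq_one_iff f _).2 (eq_one_or_neg_one_of_sq h2 hsq), one_pow]
      · simp at hl
  · rw [← classInner_comp (cover f) (cover_surjective f), hpull, classInner_sub_left,
      classInner_sub_right, classInner_sub_right, hεc, classInner_smul_left, classInner_smul_left,
      classInner_smul_right, classInner_smul_right, classInner_St_self h2, hStone, hone,
      classInner_isIrr_self isIrr_one]
    rcases hε with ⟨-, rfl⟩ | ⟨-, rfl⟩ <;> norm_num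
  · rw [← classInner_comp (cover f) (cover_surjective f), hpull, classInner_sub_left, hεc,
      classInner_smul_left, hStone, classInner_isIrr_self isIrr_one]
    rcases hε with ⟨-, rfl⟩ | ⟨-, rfl⟩ <;> norm_num

end CfsgLib.GW.PhiTrick
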