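import Cfsg.Agent.SameDegree.Basic
import Cfsg.Agent.PrincipalBlock.Kernel
import Cfsg.Agent.SL2CharTable.Table

/-!
# Gorenstein–Walter, Φ-trick: characters of `U` fixed by a reflection

If the commutators of `F ≤ U` are central in `U` and inverted by `b`, then an irreducible character
of `U` fixed by `b` has degree at most `|U : F|`.
-/

set_option autoImplicit false
set_option linter.unusedSectionVars false
set_option linter.style.haveILetI false

namespace CfsgLib.GW.PhiTrick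

open Cfsg CfsgLib.Characters Subgroup

universe u

variable {G : Type u} [Group G] [Fintype G]

/-- **The bound for the fixed characters.** -/
theorem theta_bound (U F : Subgroup G) [Fintype U] (hodd : Odd (Nat.card U)) {b : G}
    (hb : ∀ u ∈ U, b * u * b⁻¹ ∈ U)
    (hF : ∀ x ∈ F, ∀ y ∈ F, (∀ u ∈ U, u * (x * y * x⁻¹ * y⁻¹) = x * y * x⁻¹ * y⁻¹ * u) ∧
      b * (x * y * x⁻¹ * y⁻¹) * b⁻¹ = (x * y * x⁻¹ * y⁻¹)⁻¹)
    {d : ℕ} (hd : F.relIndex U ≤ d) (θ : IrrCharacter U)
    (hθ : ∀ u : U, (θ : U → ℂ) ⟨b * u * b⁻¹, hb u u.2⟩ = (θ : U → ℂ) u) :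
    ∃ n : ℕ, (θ : U → ℂ) 1 = n ∧ n ≤ d := by
  set K := PrincipalBlock.charKer θ
  have hker : ∀ x y : U, (x : G) ∈ F → (y : G) ∈ F → x * y * x⁻¹ * y⁻¹ ∈ K := by
    intro x y hx hy
    obtain ⟨hcen, hinv⟩ := hF x hx y hy
    set c := x * y * x⁻¹ * y⁻¹ with hc
    have hc' : (c : G) = (x : G) * y * (x : G)⁻¹ * (y : G)⁻¹ := by
      rw [hc]; push_cast; rfl
    have hcZ : c ∈ center U := mem_center_iff.2 fun u => Subtype.ext (by
      simp only [coe_mul, hc']; exact hcen u u.2)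
    have h1 : (θ : U → ℂ) c⁻¹ = (θ : U → ℂ) c := by
      rw [← hθ c]
      refine congrArg _ (Subtype.ext ?_)
      show ((c⁻¹ : U) : G) = b * (c : G) * b⁻¹
      rw [coe_inv, hc']
      exact hinv.symm
    have h2 := SL2CharTable.central_mul θ.2 hcZ c⁻¹
    rw [mul_inv_cancel, h1] at h2
    rw [PrincipalBlock.mem_charKer]
    rcases mul_self_eq_mul_self_iff.1 h2.symm with h3 | h3
    · exact h3
    exfalso
    have hθ1 := irr_one_ne_zero θ.2
    have hstep : ∀ m : ℕ, (θ : U → ℂ) (c ^ m) = (-1) ^ m * (θ : U → ℂ) 1 := by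
      intro m
      induction m with
      | zero => simp
      | succ m ih =>
        have h4 := SL2CharTable.central_mul θ.2 hcZ (c ^ m)
        rw [← pow_succ', h3, ih] at h4
        apply mul_right_cancel₀ hθ1
        rw [h4, pow_succ]
        ring
    have h5 := hstep (Nat.card U)
    rw [pow_card_eq_one', hodd.neg_one_pow, neg_one_mul] at h5
    exact hθ1 (by linear_combination (1 / 2 : ℂ) * h5)
  obtain ⟨η, hη, hηθ⟩ := exists_irr_quotient K θ.2 fun k hk => PrincipalBlock.mem_charKer.1 hk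
  haveI : Fintype (U ⧸ K) := Fintype.ofFinite _
  have hab : ∀ p ∈ (F.subgroupOf U).map (QuotientGroup.mk' K),
      ∀ q ∈ (F.subgroupOf U).map (QuotientGroup.mk' K), p * q = q * p := by
    rintro _ ⟨x, hx, rfl⟩ _ ⟨y, hy, rfl⟩
    rw [← map_mul, ← map_mul]
    refine QuotientGroup.eq.2 ?_
    have h := hker y⁻¹ x⁻¹ (by rw [coe_inv]; exact inv_mem hy) (by rw [coe_inv]; exact inv_mem hx)
    rw [inv_inv, inv_inv] at h
    rwa [mul_inv_rev, ← mul_assoc]
  obtain ⟨n, hn, hle⟩ := SameDegree.degree_le_index _ hab hη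
  refine ⟨n, ?_, hle.trans ((Nat.le_of_dvd (Nat.pos_of_ne_zero Subgroup.index_ne_zero_of_finite)
    (Subgroup.index_map_dvd _ (QuotientGroup.mk'_surjective K))).trans hd)⟩
  rw [hηθ, QuotientGroup.mk_one, hn]

end CfsgLib.GW.PhiTrick
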