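import Cfsg.Agent.GW.PhiTrick.Section

/-!
# Gorenstein–Walter, Φ-trick: the counting contradiction

A generalized character of norm four, with trivial constituent, vanishing at the identity and on the
sections of `σ`, whose pair count at the involution is zero, cannot have all other constituents of
large degree.
-/

set_option autoImplicit false
set_option linter.unusedSectionVars false
set_option linter.style.haveILetI false

namespace CfsgLib.GW.PhiTrick

open Cfsg CfsgLib.Characters CfsgLib.SuzukiWong CfsgLib.PrincipalBlock Subgroup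
open scoped ComplexConjugate

universe u

variable {G : Type u} [Group G] [Fintype G] {z σ : G} {U : Subgroup G} {h : ℕ}

namespace Data

variable (d : Data z σ U h) [Fintype U] [Fintype (zpowers σ)]
include d

/-- The slices are generalized characters of `⟨σ⟩`. -/
theorem isGen_slice' {χ : G → ℂ} (hχ : IsGeneralizedCharacter G χ) (θ : IrrCharacter U) :
    IsGeneralizedCharacter (zpowers σ) (slice σ U χ θ) :=
  isGen_slice (fun a b => Subtype.ext (by
    obtain ⟨i, hi⟩ := mem_zpowers_iff.1 a.2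
    obtain ⟨j, hj⟩ := mem_zpowers_iff.1 b.2
    simp only [coe_mul, ← hi, ← hj]
    exact ((Commute.refl σ).zpow_zpow i j).eq)) (F := fun p => χ (d.hom p)) (isGen_comp d.hom hχ) θ.2

open Classical in
/-- A character occurring on the section of `z` costs at least `2h - 1`. -/
theorem slice_cost {χ : G → ℂ} (hχ : IsGeneralizedCharacter G χ) {θ : IrrCharacter U}
    (hθ : slice σ U χ θ ⟨z, d.z_mem⟩ ≠ 0) :
    (2 * h : ℝ) - 1 ≤ ∑ y ∈ Finset.univ.erase (1 : zpowers σ),
        Complex.normSq (slice σ U χ θ y) ∧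
      Complex.normSq (slice σ U χ θ ⟨z, d.z_mem⟩) ≤ ∑ y ∈ Finset.univ.erase (1 : zpowers σ),
        Complex.normSq (slice σ U χ θ y) ∧
      1 ≤ Complex.normSq (slice σ U χ θ ⟨z, d.z_mem⟩) := by
  have hz1 : (⟨z, d.z_mem⟩ : zpowers σ) ≠ 1 := fun e =>
    Small.ne_one_of_orderOf_two d.hz (congrArg Subtype.val e)
  have hK : ∀ a b : zpowers σ, a * b = b * a := fun a b => Subtype.ext (by
    obtain ⟨i, hi⟩ := mem_zpowers_iff.1 a.2
    obtain ⟨j, hj⟩ := mem_zpowers_iff.1 b.2
    simp only [coe_mul, ← hi, ← hj]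
    exact ((Commute.refl σ).zpow_zpow i j).eq)
  refine ⟨?_, Finset.single_le_sum (fun y _ => Complex.normSq_nonneg _)
    (Finset.mem_erase.2 ⟨hz1, Finset.mem_univ _⟩), ?_⟩
  · have := card_sub_one_le hK (d.isGen_slice' hχ θ) hz1 hθ
    rw [Nat.card_zpowers, d.ordσ] at this
    push_cast at this
    convert this
  · obtain ⟨n, hn⟩ := int_apply hK (d.isGen_slice' hχ θ) (y := ⟨z, d.z_mem⟩)
      (Subtype.ext (Small.mul_self_of_orderOf_two d.hz))
    rw [hn] at hθ ⊢
    rw [Complex.normSq_intCast]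
    have h1 : n ≠ 0 := fun e => hθ (by rw [e, Int.cast_zero])
    have h2 : (1 : ℤ) ≤ n * n := by
      rcases Int.lt_or_lt_of_ne h1 with hlt | hlt <;> nlinarith
    calc (1 : ℝ) ≤ ((n * n : ℤ) : ℝ) := by exact_mod_cast h2
      _ = _ := by push_cast; ring

open Classical in
/-- The value at `z` of one of two characters equal up to sign on the sections. -/
theorem value_bound {b : G} (hb : b ∈ centralizer ({z} : Set G)) {dd : ℕ}
    (hθ : ∀ θ : IrrCharacter U, (∀ u : U, (θ : U → ℂ) ⟨b * u * b⁻¹, d.normal b hb u u.2⟩ =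
      (θ : U → ℂ) u) → ∃ n : ℕ, (θ : U → ℂ) 1 = n ∧ n ≤ dd)
    {χ ψ : IrrCharacter G} (hne : χ ≠ ψ) {c : ℝ} (hc : c = 1 ∨ c = -1)
    (hψ : ∀ g ∈ dset σ U, (ψ : G → ℂ) g = c * (χ : G → ℂ) g) :
    (c = -1 ∧ (χ : G → ℂ) 1 = (ψ : G → ℂ) 1) ∨
      Complex.normSq ((χ : G → ℂ) z) ≤ 2 * h * (dd : ℝ) ^ 2 := by
  obtain ⟨hle, heq⟩ := d.weight_le hne hc hψ
  have hgen := isGen_of_isIrr χ.2
  set e := fun θ : IrrCharacter U => slice σ U (χ : G → ℂ) θ ⟨z, d.z_mem⟩ with he
  set S := Finset.univ.filter fun θ => e θ ≠ 0 with hS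
  have hcost : (S.card : ℝ) * (2 * h - 1) ≤ weight σ U (χ : G → ℂ) := by
    rw [weight]
    refine le_trans ?_ (Finset.sum_le_sum_of_subset_of_nonneg (Finset.subset_univ S)
      fun θ _ _ => Finset.sum_nonneg fun y _ => Complex.normSq_nonneg _)
    rw [← nsmul_eq_mul]
    exact Finset.card_nsmul_le_sum _ _ _ fun θ hθS =>
      (d.slice_cost hgen (Finset.mem_filter.1 hθS).2).1
  have hval : (χ : G → ℂ) z = ∑ θ ∈ S, e θ * (θ : U → ℂ) 1 := by
    have h1 := congrFun (classFunction_expansion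
      (d.isClass_translate (isClassFunction_of_isIrr χ.2) ⟨z, d.z_mem⟩)) (1 : U)
    simp only [OneMemClass.coe_one, mul_one, Finset.sum_apply, Pi.smul_apply, smul_eq_mul] at h1
    rw [h1]
    refine (Finset.sum_subset (Finset.subset_univ S) fun θ _ hθS => ?_).symm
    simp only [hS, Finset.mem_filter, Finset.mem_univ, true_and, not_not] at hθS
    show e θ * _ = 0
    rw [hθS, zero_mul]
  have h1le : (1 : ℝ) ≤ h := by exact_mod_cast d.hpos
  rcases Nat.lt_or_ge 1 S.card with h2 | h2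
  · left
    refine heq (le_antisymm hle ?_)
    have hS2 : (2 : ℝ) ≤ S.card := by exact_mod_cast h2
    nlinarith
  right
  rcases Nat.le_one_iff_eq_zero_or_eq_one.1 h2 with h0 | h1
  · rw [hval, Finset.card_eq_zero.1 h0, Finset.sum_empty, map_zero]
    positivity
  obtain ⟨θ, hθS⟩ := Finset.card_eq_one.1 h1
  rw [hθS, Finset.sum_singleton] at hval
  have heθ : e θ ≠ 0 := (Finset.mem_filter.1 (hθS ▸ Finset.mem_singleton_self θ : θ ∈ S)).2
  -- `θ` is fixed by `b`
  have hb' := inv_mem hb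
  let β : U ≃* U :=
    { toFun := fun u => ⟨b * u * b⁻¹, d.normal b hb u u.2⟩
      invFun := fun u => ⟨b⁻¹ * u * b, by simpa using d.normal b⁻¹ hb' u u.2⟩
      left_inv := fun u => Subtype.ext (by simp [mul_assoc])
      right_inv := fun u => Subtype.ext (by simp [mul_assoc])
      map_mul' := fun u v => Subtype.ext (by simp [mul_assoc]) }
  let θ' : IrrCharacter U := ⟨fun u => (θ : U → ℂ) (β u), isIrr_comp β.toMonoidHom β.surjective θ.2⟩
  have he' : e θ' = e θ := by
    simp only [he, slice, classInner]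
    congr 1
    refine Fintype.sum_equiv β.toEquiv _ _ fun u => ?_
    show _ * conj ((θ : U → ℂ) (β u)) = (χ : G → ℂ) (z * (β u : G)) * conj ((θ : U → ℂ) (β u))
    congr 1
    show (χ : G → ℂ) (z * u) = (χ : G → ℂ) (z * (b * u * b⁻¹))
    rw [← isClassFunction_of_isIrr χ.2 (z * u) b]
    refine congrArg _ ?_
    calc b * (z * (u : G)) * b⁻¹ = b * z * u * b⁻¹ := by group
      _ = z * b * u * b⁻¹ := by rw [mem_centralizer_singleton_iff.1 hb]
      _ = z * (b * u * b⁻¹) := by group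
  have hfix : θ' = θ := Finset.mem_singleton.1
    (hθS ▸ Finset.mem_filter.2 ⟨Finset.mem_univ _, by rw [he']; exact heθ⟩ : θ' ∈ ({θ} : Finset _))
  obtain ⟨n, hn, hnd⟩ := hθ θ fun u => congrFun (congrArg Subtype.val hfix) u
  have h3 : Complex.normSq (e θ) ≤ weight σ U (χ : G → ℂ) := by
    refine (d.slice_cost hgen heθ).2.1.trans ?_
    rw [weight]
    exact Finset.single_le_sum (f := fun θ : IrrCharacter U =>
      ∑ y ∈ Finset.univ.erase (1 : zpowers σ), Complex.normSq (slice σ U (χ : G → ℂ) θ y))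
      (fun θ _ => Finset.sum_nonneg fun y _ => Complex.normSq_nonneg _) (Finset.mem_univ θ)
  rw [hval, map_mul, hn, Complex.normSq_natCast]
  have hnd' : (n : ℝ) ≤ dd := by exact_mod_cast hnd
  exact mul_le_mul (h3.trans hle) (by nlinarith) (by positivity) (by positivity)

open Classical in
set_option maxHeartbeats 400000 in
/-- **The counting contradiction.** -/
theorem false_of_four {b : G} (hb : b ∈ centralizer ({z} : Set G)) {dd : ℕ}
    (hθ : ∀ θ : IrrCharacter U, (∀ u : U, (θ : U → ℂ) ⟨b * u * b⁻¹, d.normal b hb u u.2⟩ =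
      (θ : U → ℂ) u) → ∃ n : ℕ, (θ : U → ℂ) 1 = n ∧ n ≤ dd)
    {Φ : G → ℂ} (hΦ : IsGeneralizedCharacter G Φ) (hvan : ∀ g ∈ dset σ U, Φ g = 0) (hΦ1 : Φ 1 = 0)
    (hnorm : classInner Φ Φ = 4)
    (htriv : classInner Φ (fun _ => 1) = 1 ∨ classInner Φ (fun _ => 1) = -1)
    (hpairs : ∑ χ : IrrCharacter G,
      classInner Φ (χ : G → ℂ) * (χ : G → ℂ) z ^ 2 / (χ : G → ℂ) 1 = 0)
    {Bd : ℕ} (hdeg : ∀ χ : IrrCharacter G, χ ≠ trivChar G → classInner Φ (χ : G → ℂ) ≠ 0 →
      ∀ n : ℕ, (χ : G → ℂ) 1 = n → Bd ≤ n)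
    (hnum : 1 + 4 * h * dd ^ 2 < Bd) (hnum' : 4 * h ≤ Bd) : False := by
  obtain ⟨M, hM⟩ := Blocks.exists_isPModular 2 Nat.prime_two
  haveI : M.IsPrime := Blocks.IsPModular.isPrime hM
  set a := cof Φ with ha
  have hzz := Small.mul_self_of_orderOf_two d.hz
  choose m hm using fun χ : IrrCharacter G => BlocksFrobenius.exists_int_apply χ hzz
  choose n hn0 hn using fun χ : IrrCharacter G => exists_degree_pos χ.2
  have h1' : classInner Φ (trivChar G : G → ℂ) = classInner Φ (fun _ => 1) := by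
    congr 1
  set χ₀ := trivChar G with hχ₀
  have ha0 : a χ₀ = 1 ∨ a χ₀ = -1 := by
    rw [← h1', classInner_eq_cof hΦ] at htriv
    rcases htriv with e | e
    · exact Or.inl (by exact_mod_cast e)
    · exact Or.inr (by exact_mod_cast e)
  have hsq : ∑ χ, a χ ^ 2 = 4 := sum_cof_sq hΦ (by rw [hnorm]; norm_num)
  have hsq3 : ∑ χ ∈ Finset.univ.erase χ₀, a χ ^ 2 = 3 := by
    have h := Finset.add_sum_erase Finset.univ (fun χ => a χ ^ 2) (Finset.mem_univ χ₀)
    simp only [hsq] at h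
    rcases ha0 with e | e <;> rw [e] at h <;> linarith
  set S := (Finset.univ.erase χ₀).filter fun χ => a χ ≠ 0 with hS
  have hunit : ∀ χ ∈ S, a χ = 1 ∨ a χ = -1 := by
    intro χ hχ
    obtain ⟨h1, h2⟩ := Finset.mem_filter.1 hχ
    have hle : a χ ^ 2 ≤ 3 := hsq3 ▸ Finset.single_le_sum (f := fun χ => a χ ^ 2)
      (fun χ _ => sq_nonneg _) h1
    have : -2 < a χ ∧ a χ < 2 := by constructor <;> nlinarith
    omega
  have hcard : S.card = 3 := by
    have h : ∑ χ ∈ S, a χ ^ 2 = 3 := by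
      rw [← hsq3]
      exact Finset.sum_subset (Finset.filter_subset _ _) fun χ hχ hχS => by
        simp only [hS, Finset.mem_filter, not_and, not_not] at hχS
        rw [hχS hχ]; norm_num
    rw [Finset.sum_congr rfl fun χ hχ => show a χ ^ 2 = 1 by
      rcases hunit χ hχ with e | e <;> rw [e] <;> norm_num] at h
    simp only [Finset.sum_const, nsmul_eq_mul, mul_one] at h
    exact_mod_cast h
  -- sums against `a`
  have hexp : ∀ f : IrrCharacter G → ℂ,
      ∑ χ, (a χ : ℂ) * f χ = (a χ₀ : ℂ) * f χ₀ + ∑ χ ∈ S, (a χ : ℂ) * f χ := by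
    intro f
    rw [← Finset.add_sum_erase _ _ (Finset.mem_univ χ₀)]
    congr 1
    refine (Finset.sum_subset (Finset.filter_subset _ _) fun χ hχ hχS => ?_).symm
    simp only [Finset.mem_filter, not_and, not_not] at hχS
    rw [hχS hχ]; simp
  have ht1 : ∀ g : G, (χ₀ : G → ℂ) g = 1 := fun g => trivChar_apply g
  have hE1 : (a χ₀ : ℤ) + ∑ χ ∈ S, a χ * n χ = 0 := by
    have h := hexp fun χ => (χ : G → ℂ) 1
    rw [← eq_sum_cof hΦ, hΦ1, ht1, mul_one] at h
    apply Int.cast_injective (α := ℂ)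
    push_cast
    rw [Finset.sum_congr rfl fun χ _ => by rw [← hn χ]]
    exact h.symm
  have hE2 : (a χ₀ : ℝ) + ∑ χ ∈ S, (a χ : ℝ) * (m χ : ℝ) ^ 2 / n χ = 0 := by
    have h := hexp fun χ => (χ : G → ℂ) z ^ 2 / (χ : G → ℂ) 1
    rw [ht1, ht1, Finset.sum_congr rfl fun χ _ => by rw [← mul_div_assoc, ← classInner_eq_cof hΦ],
      hpairs] at h
    apply Complex.ofReal_injective
    push_cast
    rw [h]
    simp only [one_pow, div_one, mul_one]
    congr 1
    exact Finset.sum_congr rfl fun χ _ => by rw [hm, hn, mul_div_assoc]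
  -- it suffices that the squares are small
  have key : ∑ χ ∈ S, m χ ^ 2 < (Bd : ℤ) → False := by
    intro hlt
    have hBd : (0 : ℝ) < Bd := by
      exact_mod_cast (show 0 < Bd by omega)
    have hb1 : |∑ χ ∈ S, (a χ : ℝ) * (m χ : ℝ) ^ 2 / n χ| ≤
        (∑ χ ∈ S, (m χ : ℝ) ^ 2) / Bd := by
      refine (Finset.abs_sum_le_sum_abs _ _).trans ?_
      rw [Finset.sum_div]
      refine Finset.sum_le_sum fun χ hχ => ?_
      have hge : (Bd : ℝ) ≤ n χ := by
        obtain ⟨h1, h2⟩ := Finset.mem_filter.1 hχ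
        exact_mod_cast hdeg χ (Finset.mem_erase.1 h1).1
          (by rw [classInner_eq_cof hΦ]; exact_mod_cast h2) _ (hn χ)
      have habs : |(a χ : ℝ)| = 1 := by rcases hunit χ hχ with e | e <;> rw [e] <;> norm_num
      rw [abs_div, abs_mul, habs, one_mul, abs_of_nonneg (sq_nonneg _), Nat.abs_cast]
      exact div_le_div_of_nonneg_left (sq_nonneg _) hBd hge
    have hb2 : (∑ χ ∈ S, (m χ : ℝ) ^ 2) / Bd < 1 := by
      rw [div_lt_one hBd]
      exact_mod_cast hlt
    rw [show ∑ χ ∈ S, (a χ : ℝ) * (m χ : ℝ) ^ 2 / n χ = -(a χ₀ : ℝ) by linarith, abs_neg] at hb1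
    have : |(a χ₀ : ℝ)| = 1 := by rcases ha0 with e | e <;> rw [e] <;> norm_num
    linarith
  -- the block decomposition at `z`
  have hz1 : z ≠ 1 := Small.ne_one_of_orderOf_two d.hz
  obtain ⟨hI, -⟩ := d.split hM hΦ hvan d.z_mem hz1
  have hI' : (a χ₀ : ℤ) + ∑ χ ∈ S.filter (· ∈ Cfsg.principalBlock M G), a χ * m χ = 0 := by
    rw [Finset.sum_congr rfl fun χ _ => (mul_ite_zero _ _ _).symm] at hI
    have h := hexp fun χ => if χ ∈ Cfsg.principalBlock M G then (χ : G → ℂ) z else 0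
    rw [hI, if_pos trivChar_mem, ht1, mul_one] at h
    apply Int.cast_injective (α := ℂ)
    push_cast
    rw [Finset.sum_filter]
    refine Eq.trans ?_ h.symm
    congr 1
    exact Finset.sum_congr rfl fun χ _ => by split_ifs <;> simp [hm]
  set I := S.filter (· ∈ Cfsg.principalBlock M G) with hIdef
  set O := S.filter (fun χ => χ ∉ Cfsg.principalBlock M G) with hOdef
  have hIO : I.card + O.card = 3 := hcard ▸ Finset.card_filter_add_card_filter_not _
  have hout : ∀ g ∈ dset σ U, ∑ χ ∈ O, (a χ : ℂ) * (χ : G → ℂ) g = 0 := by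
    rintro g ⟨y, hy, hy1, u, hu, rfl⟩
    have h0 := (d.split hM hΦ hvan hy hy1).2 u hu
    have h := hexp fun χ => if χ ∈ Cfsg.principalBlock M G then 0 else (χ : G → ℂ) (y * u)
    simp only [mul_ite, mul_zero] at h
    rw [h0, if_pos trivChar_mem, zero_add] at h
    rw [Finset.sum_filter]
    refine Eq.trans ?_ h.symm
    exact Finset.sum_congr rfl fun χ _ => by split_ifs <;> rfl
  have hzD : z ∈ dset σ U := ⟨z, d.z_mem, hz1, 1, one_mem U, (mul_one z).symm⟩
  have hIsq : ∑ χ ∈ I, m χ ^ 2 + 1 ≤ 4 * (h : ℤ) := by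
    haveI : Fact (Nat.Prime 2) := ⟨Nat.prime_two⟩
    obtain ⟨k, hk⟩ := d.pow2
    have hn' : (U.subgroupOf (centralizer ({z} : Set G))).Normal :=
      ⟨fun x hx g => mem_subgroupOf.2 (by
        push_cast; exact d.normal _ g.2 _ (mem_subgroupOf.1 hx))⟩
    have hs := sum_sq_invol hM d.hz U d.le hn' d.odd.not_two_dvd_nat (k := k + 2)
      (by rw [show 2 ^ (k + 2) = 4 * h by rw [hk, pow_add]; ring, ← d.index]; rfl)
    rw [show (2 : ℂ) ^ (k + 2) = ((4 * (h : ℤ) : ℤ) : ℂ) by rw [hk, pow_add]; push_cast; ring] at hs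
    have hs' : ∑ χ : IrrCharacter G, (if χ ∈ Cfsg.principalBlock M G then m χ ^ 2 else 0) =
        4 * (h : ℤ) := by
      apply Int.cast_injective (α := ℂ)
      rw [← hs]
      push_cast
      exact Finset.sum_congr rfl fun χ _ => by split_ifs <;> simp [hm, sq]
    rw [← hs', ← Finset.add_sum_erase _ _ (Finset.mem_univ χ₀), if_pos trivChar_mem, add_comm]
    have hm0 : m χ₀ = 1 := by
      have := hm χ₀; rw [ht1] at this; exact_mod_cast this.symm
    rw [hm0, one_pow, hIdef, Finset.sum_filter]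
    refine add_le_add le_rfl (Finset.sum_le_sum_of_subset_of_nonneg (Finset.filter_subset _ _)
      fun χ _ _ => ?_)
    split_ifs <;> positivity
  have hsplit : ∑ χ ∈ S, m χ ^ 2 = ∑ χ ∈ I, m χ ^ 2 + ∑ χ ∈ O, m χ ^ 2 :=
    (Finset.sum_filter_add_sum_filter_not _ _ _).symm
  have hOcases : O.card = 0 ∨ O.card = 1 ∨ O.card = 2 ∨ I.card = 0 := by omega
  rcases hOcases with hO | hO | hO | hI0
  · refine key ?_
    rw [hsplit, Finset.card_eq_zero.1 hO, Finset.sum_empty]
    omega
  · obtain ⟨χ, hχ⟩ := Finset.card_eq_one.1 hO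
    refine key ?_
    have h := hout z hzD
    rw [hχ, Finset.sum_singleton, hm] at h
    have hm0 : m χ = 0 := by
      have h' : a χ * m χ = 0 := by exact_mod_cast h
      refine (mul_eq_zero.1 h').resolve_left ?_
      exact (Finset.mem_filter.1 (Finset.mem_filter.1
        (hχ ▸ Finset.mem_singleton_self χ : χ ∈ O)).1).2
    rw [hsplit, hχ, Finset.sum_singleton, hm0]
    omega
  · obtain ⟨χ, ψ, hne, hχψ⟩ := Finset.card_eq_two.1 hO
    obtain ⟨φ, hφ⟩ := Finset.card_eq_one.1 (show I.card = 1 by omega)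
    have haχ := hunit χ (Finset.mem_filter.1 (hχψ ▸ Finset.mem_insert_self χ _ : χ ∈ O)).1
    have haψ := hunit ψ (Finset.mem_filter.1 (hχψ ▸ Finset.mem_insert_of_mem
      (Finset.mem_singleton_self ψ) : ψ ∈ O)).1
    have hφS : φ ∈ S := (Finset.mem_filter.1 (hφ ▸ Finset.mem_singleton_self φ : φ ∈ I)).1
    have haφ := hunit φ hφS
    set c : ℤ := -(a χ * a ψ) with hc
    have hc' : (c : ℝ) = 1 ∨ (c : ℝ) = -1 := by
      rcases haχ with e | e <;> rcases haψ with e' | e' <;> simp [hc, e, e']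
    have hrel : ∀ g ∈ dset σ U, (ψ : G → ℂ) g = ((c : ℝ) : ℂ) * (χ : G → ℂ) g := by
      intro g hg
      have h := hout g hg
      rw [hχψ, Finset.sum_pair hne] at h
      rw [hc]
      rcases haχ with e | e <;> rcases haψ with e' | e' <;> rw [e, e'] at h ⊢ <;> push_cast at h ⊢ <;>
        first | linear_combination h | linear_combination -h
    have hmψ : m ψ = c * m χ := by
      have h := hrel z hzD
      rw [hm, hm] at h
      exact_mod_cast h
    have hφ1 : m φ ^ 2 = 1 := by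
      rw [hφ, Finset.sum_singleton] at hI'
      have e : m φ = -(a χ₀ * a φ) := by rcases haφ with e | e <;> rw [e] at hI' ⊢ <;> linarith
      rw [e]
      rcases ha0 with e | e <;> rcases haφ with e' | e' <;> rw [e, e'] <;> norm_num
    have hT : m ψ ^ 2 = m χ ^ 2 := by
      rw [hmψ, hc]; rcases haχ with e | e <;> rcases haψ with e' | e' <;> rw [e, e'] <;> ring
    rcases d.value_bound hb hθ hne hc' hrel with ⟨hcm, hdd⟩ | hle
    · have hc1 : c = -1 := by exact_mod_cast hcm
      have haa : a ψ = a χ := by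
        rw [hc] at hc1; rcases haχ with e | e <;> rcases haψ with e' | e' <;> rw [e, e'] at hc1 ⊢ <;>
          omega
      have hnn : n ψ = n χ := by rw [hn, hn] at hdd; exact_mod_cast hdd.symm
      rw [hφ, Finset.sum_singleton] at hI'
      rw [← Finset.sum_filter_add_sum_filter_not S (· ∈ Cfsg.principalBlock M G), ← hIdef, ← hOdef,
        hφ, hχψ, Finset.sum_singleton, Finset.sum_pair hne, haa, hnn] at hE1
      rw [← Finset.sum_filter_add_sum_filter_not S (· ∈ Cfsg.principalBlock M G), ← hIdef, ← hOdef,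
        hφ, hχψ, Finset.sum_singleton, Finset.sum_pair hne, haa, hnn] at hE2
      have hmm : (m ψ : ℝ) ^ 2 = (m χ : ℝ) ^ 2 := by exact_mod_cast hT
      have hmφ : (m φ : ℝ) ^ 2 = 1 := by exact_mod_cast hφ1
      have hE2' : a χ₀ * n φ * n χ + a φ * n χ + 2 * (a χ * m χ ^ 2) * n φ = (0 : ℤ) := by
        have hnφ : (n φ : ℝ) ≠ 0 := Nat.cast_ne_zero.2 (hn0 φ).ne'
        have hnχ : (n χ : ℝ) ≠ 0 := Nat.cast_ne_zero.2 (hn0 χ).ne'
        apply Int.cast_injective (α := ℝ)
        push_cast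
        rw [hmm, hmφ] at hE2
        field_simp at hE2
        linear_combination hE2
      set X : ℤ := m φ * n φ with hX
      have haχ2 : a χ ^ 2 = 1 := by rcases haχ with e | e <;> rw [e] <;> norm_num
      have ha02 : a χ₀ ^ 2 = 1 := by rcases ha0 with e | e <;> rw [e] <;> norm_num
      have haφ' : a φ = -(a χ₀ * m φ) := by
        have h2 : a φ = -(a χ₀ * m φ) * 1 := by
          linear_combination (m φ) * hI' - (a φ) * hφ1
        linear_combination h2
      rw [haφ'] at hE1 hE2'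
      have hk : X - 1 = 2 * a χ * a χ₀ * n χ := by
        rw [hX]
        linear_combination (-(a χ₀)) * hE1 + (1 - m φ * (n φ : ℤ)) * ha02
      have hfin : X * (X - 2 + 4 * m χ ^ 2) = -1 := by
        have h4 : (X - 1) * (X - 1) + 4 * m χ ^ 2 * X = 0 := by
          nth_rw 1 [hk]
          rw [hX]
          linear_combination (2 * a χ * m φ) * hE2' +
            (2 * a χ * a χ₀ * (n χ : ℤ)) * hφ1 + (-4 * m χ ^ 2 * m φ * (n φ : ℤ)) * haχ2
        linear_combination h4
      rcases Int.eq_one_or_neg_one_of_mul_eq_neg_one hfin with e | e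
      all_goals
        have hnφ : 4 ≤ n φ := le_trans (by have := d.hpos; omega) (hdeg φ
          (Finset.mem_erase.1 (Finset.mem_filter.1 hφS).1).1
          (by rw [classInner_eq_cof hΦ]; exact_mod_cast (Finset.mem_filter.1 hφS).2) _ (hn φ))
        have h2 : X ^ 2 = (n φ : ℤ) ^ 2 := by rw [hX]; linear_combination (n φ : ℤ) ^ 2 * hφ1
        rw [e] at h2
        have h4' : (4 : ℤ) ≤ n φ := by exact_mod_cast hnφ
        nlinarith
    · refine key ?_
      rw [hsplit, hφ, hχψ, Finset.sum_singleton, Finset.sum_pair hne, hφ1, hT]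
      have hle' : m χ ^ 2 ≤ 2 * (h : ℤ) * (dd : ℤ) ^ 2 := by
        rw [hm, Complex.normSq_intCast] at hle
        have : ((m χ ^ 2 : ℤ) : ℝ) ≤ ((2 * (h : ℤ) * (dd : ℤ) ^ 2 : ℤ) : ℝ) := by
          push_cast; linarith
        exact_mod_cast this
      have hnum2 : 1 + 4 * (h : ℤ) * (dd : ℤ) ^ 2 < Bd := by exact_mod_cast hnum
      linarith
  · rw [Finset.card_eq_zero.1 hI0, Finset.sum_empty, add_zero] at hI'
    rcases ha0 with e | e <;> rw [e] at hI' <;> norm_num at hI'

end Data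

end CfsgLib.GW.PhiTrick
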