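import Cfsg.Agent.GW.PhiTrick.Slice
import Cfsg.Agent.SuzukiWong.TI
import Cfsg.Agent.SuzukiWong.Sections

/-!
# Gorenstein–Walter, Φ-trick: the sections of a cyclic 2-group

`Data`: `C(z)` has the odd normal subgroup `U` of index `4h`, and `σ` of order `2h` with `σ ^ h = z`
centralises `U`.  The set `D = (⟨σ⟩ \ 1)·U` is a trivial intersection set; this bounds the values of an
irreducible character on it by a half of its norm whenever two irreducible characters agree on it up
to a scalar.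
-/

set_option autoImplicit false
set_option linter.unusedSectionVars false
set_option linter.style.haveILetI false

namespace CfsgLib.GW.PhiTrick

open Cfsg CfsgLib.Characters CfsgLib.SuzukiWong Subgroup
open scoped ComplexConjugate

universe u

variable {G : Type u} [Group G]

/-- The local situation at an involution. -/
structure Data (z σ : G) (U : Subgroup G) (h : ℕ) : Prop where
  hz : orderOf z = 2
  hpos : 1 ≤ h
  pow2 : ∃ k, h = 2 ^ k
  ordσ : orderOf σ = 2 * h
  Jz : σ ^ h = z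
  odd : Odd (Nat.card U)
  le : U ≤ centralizer ({z} : Set G)
  normal : ∀ c ∈ centralizer ({z} : Set G), ∀ u ∈ U, c * u * c⁻¹ ∈ U
  index : U.relIndex (centralizer ({z} : Set G)) = 4 * h
  comm : ∀ u ∈ U, σ * u = u * σ
  stable : ∀ c ∈ centralizer ({z} : Set G), ∃ y ∈ zpowers σ, ∃ u ∈ U, c * σ * c⁻¹ = y * u

variable {z σ : G} {U : Subgroup G} {h : ℕ}

/-- The union of the sections. -/
def dset (σ : G) (U : Subgroup G) : Set G :=
  {g | ∃ y ∈ zpowers σ, y ≠ 1 ∧ ∃ u ∈ U, g = y * u}

namespace Data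

variable (d : Data z σ U h)
include d

theorem comm_zpowers {y : G} (hy : y ∈ zpowers σ) {u : G} (hu : u ∈ U) : y * u = u * y := by
  obtain ⟨i, rfl⟩ := mem_zpowers_iff.1 hy
  exact ((show Commute σ u from d.comm u hu).zpow_left i).eq

/-- The product map. -/
def hom : zpowers σ × U →* G where
  toFun p := (p.1 : G) * p.2
  map_one' := mul_one 1
  map_mul' p q := by
    show (p.1 : G) * q.1 * ((p.2 : G) * q.2) = (p.1 : G) * p.2 * ((q.1 : G) * q.2)
    rw [mul_assoc, ← mul_assoc (q.1 : G), d.comm_zpowers q.1.2 p.2.2]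
    group

theorem hom_apply (p : zpowers σ × U) : d.hom p = (p.1 : G) * p.2 := rfl

theorem z_mem : z ∈ zpowers σ := d.Jz ▸ pow_mem (mem_zpowers σ) h

theorem invol_eq {w : G} (hw : w ∈ zpowers σ) (h2 : w * w = 1) (h1 : w ≠ 1) : w = z := by
  obtain ⟨i, rfl⟩ := mem_zpowers_iff.1 hw
  rw [← zpow_add] at h2
  have hd := orderOf_dvd_iff_zpow_eq_one.2 h2
  rw [d.ordσ] at hd
  obtain ⟨c, hc⟩ := hd
  push_cast at hc
  have hi : i = (h : ℤ) * c := by linarith
  rcases Int.even_or_odd' c with ⟨j, rfl | rfl⟩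
  · refine absurd ?_ h1
    rw [hi, show (h : ℤ) * (2 * j) = ((2 * h : ℕ) : ℤ) * j by push_cast; ring, zpow_mul,
      zpow_natCast, ← d.ordσ, pow_orderOf_eq_one, one_zpow]
  · rw [hi, show (h : ℤ) * (2 * j + 1) = ((2 * h : ℕ) : ℤ) * j + (h : ℕ) by push_cast; ring,
      zpow_add, zpow_mul, zpow_natCast, zpow_natCast, ← d.ordσ, pow_orderOf_eq_one, one_zpow,
      one_mul, d.Jz]

theorem exists_order {y : G} (hy : y ∈ zpowers σ) : ∃ k, orderOf y = 2 ^ k := by
  obtain ⟨k, hk⟩ := d.pow2
  have h1 : orderOf y ∣ 2 ^ (k + 1) := by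
    rw [pow_succ', ← hk, ← d.ordσ, ← Nat.card_zpowers σ]
    exact Subgroup.orderOf_dvd_natCard _ hy
  obtain ⟨j, -, hj⟩ := (Nat.dvd_prime_pow Nat.prime_two).1 h1
  exact ⟨j, hj⟩

theorem exists_pow_eq {y : G} (hy : y ∈ zpowers σ) (hy1 : y ≠ 1) : ∃ j : ℕ, y ^ j = z := by
  obtain ⟨k, hk⟩ := d.exists_order hy
  rcases k with _ | k
  · exact absurd (orderOf_eq_one_iff.1 (by simpa using hk)) hy1
  refine ⟨2 ^ k, d.invol_eq (pow_mem hy _) ?_ fun e => ?_⟩
  · rw [← pow_add, ← two_mul, ← pow_succ', ← hk, pow_orderOf_eq_one]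
  · have := Nat.le_of_dvd (Nat.two_pow_pos k) (hk ▸ orderOf_dvd_of_pow_eq_one e)
    have := Nat.pow_lt_pow_right (show 1 < 2 by omega) (show k < k + 1 by omega)
    omega

theorem centralizer_le {y : G} (hy : y ∈ zpowers σ) (hy1 : y ≠ 1) :
    centralizer ({y} : Set G) ≤ centralizer ({z} : Set G) := fun c hc => by
  obtain ⟨j, hj⟩ := d.exists_pow_eq hy hy1
  rw [← hj]
  exact mem_centralizer_singleton_iff.2
    ((show Commute c y from mem_centralizer_singleton_iff.1 hc).pow_right j).eq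

theorem le_centralizer {y : G} (hy : y ∈ zpowers σ) : U ≤ centralizer ({y} : Set G) :=
  fun u hu => mem_centralizer_singleton_iff.2 (d.comm_zpowers hy hu).symm

theorem eq_one_of_mem {y : G} (hy : y ∈ zpowers σ) (hU : y ∈ U) : y = 1 := by
  obtain ⟨k, hk⟩ := d.exists_order hy
  refine orderOf_eq_one_iff.1 (Nat.eq_one_of_dvd_coprimes
    ((Nat.coprime_two_left.2 d.odd).pow_left k) (hk ▸ dvd_rfl) ?_)
  exact U.orderOf_dvd_natCard hU

theorem hom_injective : Function.Injective d.hom := (injective_iff_map_eq_one _).2 fun p hp => by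
  rw [d.hom_apply] at hp
  have h1 : (p.1 : G) ∈ U := by
    rw [show (p.1 : G) = (p.2 : G)⁻¹ from mul_eq_one_iff_eq_inv.1 hp]; exact inv_mem p.2.2
  have h2 := d.eq_one_of_mem p.1.2 h1
  rw [h2, one_mul] at hp
  exact Prod.ext (Subtype.ext h2) (Subtype.ext hp)

theorem mem_dset {p : zpowers σ × U} : d.hom p ∈ dset σ U ↔ p.1 ≠ 1 := by
  refine ⟨?_, fun hp => ⟨_, p.1.2, fun e => hp (Subtype.ext e), _, p.2.2, rfl⟩⟩
  rintro ⟨y, hy, hy1, u, hu, e⟩ hp
  have e' : p = (⟨y, hy⟩, ⟨u, hu⟩) := d.hom_injective e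
  exact hy1 (congrArg Subtype.val (((congrArg Prod.fst e').symm).trans hp))

variable [Finite G]

theorem ti : TI (centralizer ({z} : Set G)) d.hom.range (dset σ U) := by
  have hconj : ∀ c ∈ centralizer ({z} : Set G), ∀ y ∈ zpowers σ,
      ∃ y' ∈ zpowers σ, ∃ u ∈ U, c * y * c⁻¹ = y' * u := by
    intro c hc y hy
    obtain ⟨y', hy', u, hu, e⟩ := d.stable c hc
    obtain ⟨i, rfl⟩ := mem_zpowers_iff.1 hy
    refine ⟨y' ^ i, zpow_mem hy' i, u ^ i, zpow_mem hu i, ?_⟩
    rw [← conj_zpow, e, (show Commute y' u from d.comm_zpowers hy' hu).mul_zpow]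
  refine ⟨?_, ?_, ?_, ?_, ?_⟩
  · rintro _ ⟨p, rfl⟩
    refine mul_mem ?_ (d.le p.2.2)
    obtain ⟨i, hi⟩ := mem_zpowers_iff.1 p.1.2
    rw [← hi]
    refine zpow_mem ?_ i
    rw [← d.Jz]
    exact mem_centralizer_singleton_iff.2 ((Commute.refl σ).pow_right h).eq
  · rintro c hc _ ⟨p, rfl⟩
    obtain ⟨y', hy', u, hu, e⟩ := hconj c hc _ p.1.2
    refine ⟨(⟨y', hy'⟩, ⟨u * (c * p.2 * c⁻¹), mul_mem hu (d.normal c hc _ p.2.2)⟩), ?_⟩
    rw [d.hom_apply, d.hom_apply]
    show y' * (u * (c * p.2 * c⁻¹)) = _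
    rw [← mul_assoc, ← e]
    group
  · rintro g ⟨y, hy, -, u, hu, rfl⟩
    exact ⟨(⟨y, hy⟩, ⟨u, hu⟩), rfl⟩
  · rintro c hc g ⟨y, hy, hy1, u, hu, rfl⟩
    obtain ⟨y', hy', v, hv, e⟩ := hconj c hc y hy
    refine ⟨y', hy', fun e1 => hy1 ?_, v * (c * u * c⁻¹), mul_mem hv (d.normal c hc u hu), ?_⟩
    · rw [e1, one_mul] at e
      refine d.eq_one_of_mem hy ?_
      have h1 := d.normal c⁻¹ (inv_mem hc) v hv
      rw [← e] at h1
      simpa [mul_assoc] using h1
    · rw [← mul_assoc y' v, ← e]; group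
  · rintro g ⟨y, hy, hy1, u, hu, rfl⟩ x ⟨y', hy', hy1', u', hu', e⟩
    have hm : (x * (y * u) * x⁻¹) ^ Nat.card U = (y' * u') ^ Nat.card U := by rw [e]
    rw [conj_pow, (show Commute y u from d.comm_zpowers hy hu).mul_pow,
      (show Commute y' u' from d.comm_zpowers hy' hu').mul_pow,
      orderOf_dvd_iff_pow_eq_one.1 (U.orderOf_dvd_natCard hu),
      orderOf_dvd_iff_pow_eq_one.1 (U.orderOf_dvd_natCard hu'), mul_one, mul_one] at hm
    have hne : y ^ Nat.card U ≠ 1 := by
      intro e1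
      obtain ⟨k, hk⟩ := d.exists_order hy
      exact hy1 (orderOf_eq_one_iff.1 (Nat.eq_one_of_dvd_coprimes
        ((Nat.coprime_two_left.2 d.odd).pow_left k) (hk ▸ dvd_rfl) (orderOf_dvd_of_pow_eq_one e1)))
    obtain ⟨j, hj⟩ := d.exists_pow_eq (pow_mem hy (Nat.card U)) hne
    have hxz : x * z * x⁻¹ = z := by
      refine d.invol_eq ?_ ?_ ?_
      · rw [← hj, ← conj_pow, hm]
        exact pow_mem (pow_mem hy' _) _
      · rw [show x * z * x⁻¹ * (x * z * x⁻¹) = x * (z * z) * x⁻¹ by group,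
          Small.mul_self_of_orderOf_two d.hz, mul_one, mul_inv_cancel]
      · exact fun e1 => Small.ne_one_of_orderOf_two d.hz (conj_eq_one_iff.1 e1)
    exact mem_centralizer_singleton_iff.2 (mul_inv_eq_iff_eq_mul.1 hxz)

omit [Finite G] in
theorem card_range : Nat.card d.hom.range = 2 * h * Nat.card U := by
  rw [← Nat.card_congr (MonoidHom.ofInjective d.hom_injective).toEquiv, Nat.card_prod,
    Nat.card_zpowers, d.ordσ]

end Data

variable [Fintype G]

/-- The slices of a function on the sections. -/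
noncomputable def slice (σ : G) (U : Subgroup G) [Fintype U] (χ : G → ℂ) (θ : IrrCharacter U)
    (y : zpowers σ) : ℂ :=
  classInner (fun u : U => χ ((y : G) * u)) (θ : U → ℂ)

open Classical in
/-- The norm of a class function on the sections, times the order of `σ`. -/
noncomputable def weight (σ : G) (U : Subgroup G) [Fintype U] [Fintype (zpowers σ)] (χ : G → ℂ) :
    ℝ :=
  ∑ θ : IrrCharacter U, ∑ y ∈ Finset.univ.erase (1 : zpowers σ), Complex.normSq (slice σ U χ θ y)

namespace Data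

variable (d : Data z σ U h) [Fintype U] [Fintype (zpowers σ)]
include d

theorem isClass_translate {χ : G → ℂ} (hχ : IsClassFunction G χ) (y : zpowers σ) :
    IsClassFunction U fun u : U => χ ((y : G) * u) := fun g x => by
  show χ ((y : G) * ((x * g * x⁻¹ : U) : G)) = _
  rw [coe_mul, coe_mul, coe_inv,
    show (y : G) * ((x : G) * g * (x : G)⁻¹) = x * (y * g) * (x : G)⁻¹ by
      rw [← mul_assoc, ← mul_assoc, d.comm_zpowers y.2 x.2]; group]
  exact hχ _ _

open Classical in
/-- The inner product on the trivial intersection set. -/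
theorem inner_dset {χ : G → ℂ} (hχ : IsClassFunction G χ) [Fintype d.hom.range] :
    classInner (fun x : d.hom.range => if (x : G) ∈ dset σ U then χ x else 0)
      (fun x : d.hom.range => if (x : G) ∈ dset σ U then χ x else 0) =
      ((weight σ U χ / (2 * h) : ℝ) : ℂ) := by
  have hsum : ∑ x : d.hom.range, (if (x : G) ∈ dset σ U then χ x else 0) *
      conj (if (x : G) ∈ dset σ U then χ x else 0) =
      ∑ y ∈ Finset.univ.erase (1 : zpowers σ), ∑ u : U, χ ((y : G) * u) * conj (χ ((y : G) * u)) := by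
    rw [← Fintype.sum_equiv (MonoidHom.ofInjective d.hom_injective).toEquiv
      (fun p => (if d.hom p ∈ dset σ U then χ (d.hom p) else 0) *
        conj (if d.hom p ∈ dset σ U then χ (d.hom p) else 0)) _ fun p => rfl,
      Fintype.sum_prod_type, ← Finset.add_sum_erase _ _ (Finset.mem_univ (1 : zpowers σ))]
    have hne : ∀ u : U, d.hom (1, u) ∉ dset σ U := fun u hu => d.mem_dset.1 hu rfl
    rw [Finset.sum_eq_zero (s := Finset.univ) fun u _ => by rw [if_neg (hne u), zero_mul], zero_add]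
    refine Finset.sum_congr rfl fun y hy => Finset.sum_congr rfl fun u _ => ?_
    rw [if_pos (d.mem_dset.2 (Finset.mem_erase.1 hy).1), d.hom_apply]
  have hy : ∀ y : zpowers σ, ∑ u : U, χ ((y : G) * u) * conj (χ ((y : G) * u)) =
      (Nat.card U : ℂ) * ∑ θ : IrrCharacter U, (Complex.normSq (slice σ U χ θ y) : ℂ) := by
    intro y
    have e := classInner_eq_sum (d.isClass_translate hχ y) (fun u : U => χ ((y : G) * u))
    simp only [Complex.mul_conj] at e
    rw [classInner, inv_mul_eq_iff_eq_mul₀ (Nat.cast_ne_zero.2 Nat.card_pos.ne')] at e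
    exact e
  rw [classInner, hsum, d.card_range, Finset.sum_congr rfl fun y _ => hy y, ← Finset.mul_sum,
    Finset.sum_comm, weight]
  have := d.hpos
  have : (Nat.card U : ℂ) ≠ 0 := Nat.cast_ne_zero.2 Nat.card_pos.ne'
  push_cast
  field_simp

open Classical in
/-- Two irreducible characters equal up to sign on the sections have weight at most `2h`, and in case
of equality their degrees agree. -/
theorem weight_le {χ ψ : IrrCharacter G} (hne : χ ≠ ψ) {c : ℝ} (hc : c = 1 ∨ c = -1)
    (hψ : ∀ g ∈ dset σ U, (ψ : G → ℂ) g = c * (χ : G → ℂ) g) :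
    weight σ U (χ : G → ℂ) ≤ 2 * h ∧
      (weight σ U (χ : G → ℂ) = 2 * h → c = -1 ∧ (χ : G → ℂ) 1 = (ψ : G → ℂ) 1) := by
  haveI := Fintype.ofFinite d.hom.range
  haveI : Finite G := inferInstance
  set α : d.hom.range → ℂ := fun x => if (x : G) ∈ dset σ U then (χ : G → ℂ) x else 0 with hα
  have hsupp : SuppOn (dset σ U) α := fun x hx => if_neg hx
  set β := indFun d.hom.range α with hβ
  set P : ℝ := weight σ U (χ : G → ℂ) / (2 * h) with hP
  have hαα : classInner α α = (P : ℂ) := d.inner_dset (isClassFunction_of_isIrr χ.2)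
  have hββ : classInner β β = 2 * (P : ℂ) := by
    rw [hβ, d.ti.inner hsupp hsupp, Finset.sum_congr rfl (g := fun g : G =>
      if g ∈ centralizer ({z} : Set G) then (P : ℂ) else 0) fun g _ => by
      split_ifs with hg
      · rw [← hαα]
        congr 1
        funext x
        simp only [conjOn]
        by_cases hx : (x : G) ∈ dset σ U
        · have h1 := d.ti.stable' hg hx
          rw [extendByZero_of_mem _ _ (d.ti.sub h1)]
          simp only [hα, if_pos hx, if_pos h1]
          have := isClassFunction_of_isIrr χ.2 (x : G) g⁻¹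
          simpa using this
        · have h1 : g⁻¹ * (x : G) * g ∉ dset σ U := fun h1 => hx (by
            have := d.ti.stable g hg _ h1
            simpa [mul_assoc] using this)
          rw [ext_supp hsupp h1]
          simp only [hα, if_neg hx]
      · rfl]
    rw [← Finset.sum_filter, Finset.sum_const, nsmul_eq_mul, ← mul_assoc]
    congr 1
    have hcard : (Finset.univ.filter fun g : G => g ∈ centralizer ({z} : Set G)).card =
        Nat.card (centralizer ({z} : Set G)) := by
      rw [← Set.ncard_coe_finset, ← Nat.card_coe_set_eq]; simp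
    have h4 : Nat.card U * (4 * h) = Nat.card (centralizer ({z} : Set G)) := by
      rw [← d.index, relIndex, ← Nat.card_congr (subgroupOfEquivOfLe d.le).toEquiv]
      exact card_mul_index _
    rw [hcard, ← h4, d.card_range]
    have := d.hpos
    have : (Nat.card U : ℂ) ≠ 0 := Nat.cast_ne_zero.2 Nat.card_pos.ne'
    push_cast
    have : (h : ℂ) ≠ 0 := Nat.cast_ne_zero.2 (by omega)
    field_simp
    ring
  have hβχ : classInner β (χ : G → ℂ) = (P : ℂ) := by
    rw [hβ, classInner_indFun _ _ (isClassFunction_of_isIrr χ.2), ← hαα]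
    simp only [classInner]
    congr 1
    refine Finset.sum_congr rfl fun x _ => ?_
    by_cases hx : (x : G) ∈ dset σ U
    · simp only [hα, if_pos hx]
    · simp only [hα, if_neg hx, zero_mul]
  have hβψ : classInner β (ψ : G → ℂ) = ((c * P : ℝ) : ℂ) := by
    rw [hβ, classInner_indFun _ _ (isClassFunction_of_isIrr ψ.2), Complex.ofReal_mul, ← hαα]
    simp only [classInner, Finset.mul_sum]
    refine Finset.sum_congr rfl fun x _ => ?_
    by_cases hx : (x : G) ∈ dset σ U
    · simp only [hα, if_pos hx, hψ _ hx, map_mul, Complex.conj_ofReal]; ring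
    · simp only [hα, if_neg hx, zero_mul, mul_zero, map_zero]
  have hbessel : 2 * P = ∑ φ : IrrCharacter G, Complex.normSq (classInner β (φ : G → ℂ)) := by
    apply Complex.ofReal_injective
    push_cast
    rw [← hββ, classInner_eq_sum (isClassFunction_indFun _ _) β]
    exact Finset.sum_congr rfl fun φ _ => Complex.mul_conj _
  have hc2 : c ^ 2 = 1 := by rcases hc with rfl | rfl <;> norm_num
  have hpair : ∑ φ ∈ ({χ, ψ} : Finset (IrrCharacter G)),
      Complex.normSq (classInner β (φ : G → ℂ)) = 2 * P ^ 2 := by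
    rw [Finset.sum_pair hne, hβχ, hβψ, Complex.normSq_ofReal, Complex.normSq_ofReal]
    linear_combination P ^ 2 * hc2
  have hsub := Finset.sum_le_sum_of_subset_of_nonneg
    (Finset.subset_univ ({χ, ψ} : Finset (IrrCharacter G)))
    (f := fun φ : IrrCharacter G => Complex.normSq (classInner β (φ : G → ℂ)))
    fun φ _ _ => Complex.normSq_nonneg _
  rw [hpair, ← hbessel] at hsub
  have hh : (2 * h : ℝ) ≠ 0 := by
    have := d.hpos
    positivity
  have hw : weight σ U (χ : G → ℂ) = P * (2 * h) := by rw [hP, div_mul_cancel₀ _ hh]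
  have hP0 : P ≤ 1 := by nlinarith
  refine ⟨by rw [hw]; exact mul_le_of_le_one_left (by positivity) hP0, fun heq => ?_⟩
  have hP1 : P = 1 := by rw [hP, heq, div_self hh]
  have hrest : ∀ φ : IrrCharacter G, φ ≠ χ → φ ≠ ψ → classInner β (φ : G → ℂ) = 0 := by
    intro φ h1 h2
    have h3 : ∑ φ ∈ (Finset.univ \ {χ, ψ} : Finset (IrrCharacter G)),
        Complex.normSq (classInner β (φ : G → ℂ)) = 0 := by
      rw [Finset.sum_sdiff_eq_sub (Finset.subset_univ _), hpair, ← hbessel, hP1]; norm_num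
    exact Complex.normSq_eq_zero.1 ((Finset.sum_eq_zero_iff_of_nonneg
      fun _ _ => Complex.normSq_nonneg _).1 h3 φ (by simp [h1, h2]))
  have h0 : β 1 = (χ : G → ℂ) 1 + (c : ℂ) * (ψ : G → ℂ) 1 := by
    conv_lhs => rw [hβ, classFunction_expansion (isClassFunction_indFun d.hom.range α)]
    simp only [Finset.sum_apply, Pi.smul_apply, smul_eq_mul, ← hβ]
    rw [← Finset.sum_subset (Finset.subset_univ ({χ, ψ} : Finset (IrrCharacter G)))
      fun φ _ hφ => by
        simp only [Finset.mem_insert, Finset.mem_singleton, not_or] at hφ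
        rw [hrest φ hφ.1 hφ.2, zero_mul],
      Finset.sum_pair hne, hβχ, hβψ, hP1]
    push_cast
    ring
  have h1 : β 1 = 0 := by
    rw [hβ, indFun_one]
    have hne : ((1 : d.hom.range) : G) ∉ dset σ U := by
      intro hm
      have := d.mem_dset (p := 1).1 (by rwa [map_one])
      exact this rfl
    simp only [hα, if_neg hne, mul_zero]
  rw [h1] at h0
  obtain ⟨m, hm, hχ1⟩ := exists_degree_pos χ.2
  obtain ⟨n, hn, hψ1⟩ := exists_degree_pos ψ.2
  rw [hχ1, hψ1] at h0 ⊢
  rcases hc with rfl | rfl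
  · exfalso
    simp only [Complex.ofReal_one, one_mul] at h0
    have : (m + n : ℕ) = 0 := by exact_mod_cast h0.symm
    omega
  · refine ⟨rfl, ?_⟩
    push_cast at h0
    linear_combination -h0

open Classical in
/-- A generalized character vanishing on the sections vanishes there blockwise. -/
theorem split {M : Ideal AlgInt} [M.IsPrime] (hM : Cfsg.IsPModular 2 M) {Φ : G → ℂ}
    (hΦ : IsGeneralizedCharacter G Φ) (hvan : ∀ g ∈ dset σ U, Φ g = 0) {y : G}
    (hy : y ∈ zpowers σ) (hy1 : y ≠ 1) :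
    (∑ χ : IrrCharacter G,
      (if χ ∈ Cfsg.principalBlock M G then (cof Φ χ : ℂ) * (χ : G → ℂ) y else 0)) = 0 ∧
    ∀ u ∈ U, (∑ χ : IrrCharacter G,
      (if χ ∈ Cfsg.principalBlock M G then 0 else (cof Φ χ : ℂ) * (χ : G → ℂ) (y * u))) = 0 := by
  haveI : Fact (Nat.Prime 2) := ⟨Nat.prime_two⟩
  have hn : (U.subgroupOf (centralizer ({y} : Set G))).Normal := ⟨fun x hx g => mem_subgroupOf.2 (by
    push_cast
    exact d.normal _ (d.centralizer_le hy hy1 g.2) _ (mem_subgroupOf.1 hx))⟩
  have hidx : ∃ k, (U.subgroupOf (centralizer ({y} : Set G))).index = 2 ^ k := by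
    obtain ⟨k, hk⟩ := d.pow2
    have h1 : U.relIndex (centralizer ({y} : Set G)) ∣ 2 ^ (k + 2) := by
      rw [show 2 ^ (k + 2) = 4 * h by rw [hk, pow_add]; ring, ← d.index]
      exact Dvd.intro _ (relIndex_mul_relIndex U _ _ (d.le_centralizer hy) (d.centralizer_le hy hy1))
    obtain ⟨j, -, hj⟩ := (Nat.dvd_prime_pow Nat.prime_two).1 h1
    exact ⟨j, hj⟩
  have hs := sum_section hM (d.exists_order hy) U (d.le_centralizer hy) hn d.odd.not_two_dvd_nat
    hidx hΦ
  rw [Finset.sum_eq_zero fun (l : U) _ => hvan (y * (l : G)) ⟨y, hy, hy1, _, l.2, rfl⟩] at hs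
  have h0 := (mul_eq_zero.1 hs.symm).resolve_left (Nat.cast_ne_zero.2 Nat.card_pos.ne')
  refine ⟨h0, fun u hu => ?_⟩
  have hΦu : Φ (y * u) = 0 := hvan _ ⟨y, hy, hy1, u, hu, rfl⟩
  rw [eq_sum_cof hΦ] at hΦu
  have he : (∑ χ : IrrCharacter G,
      (if χ ∈ Cfsg.principalBlock M G then (cof Φ χ : ℂ) * (χ : G → ℂ) y else 0)) +
      (∑ χ : IrrCharacter G,
      (if χ ∈ Cfsg.principalBlock M G then 0 else (cof Φ χ : ℂ) * (χ : G → ℂ) (y * u))) = 0 := by
    rw [← Finset.sum_add_distrib]
    refine Eq.trans (Finset.sum_congr rfl fun χ _ => ?_) hΦu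
    split_ifs with hB
    · rw [add_zero, apply_mul_core hM (d.exists_order hy) U (d.le_centralizer hy) hn
        d.odd.not_two_dvd_nat hB hu]
    · rw [zero_add]
  rwa [h0, zero_add] at he

end Data

end CfsgLib.GW.PhiTrick
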