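import Cfsg.Agent.Characters.Generalized
import Cfsg.Agent.SuzukiWong.Coeff
import Cfsg.Agent.TwoClasses.Tools

/-!
# Gorenstein–Walter, Φ-trick: slices of generalized characters of `K × U`

For a generalized character `F` of `K × U`, `K` abelian, and an irreducible character `θ` of `U` the
function `y ↦ ⟨F(y, ·), θ⟩` is a generalized character of `K`; if it is not zero off the identity then its
squares off the identity add up to at least `|K| - 1`.
-/

set_option autoImplicit false
set_option linter.unusedSectionVars false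
set_option linter.style.haveILetI false

namespace CfsgLib.GW.PhiTrick

open Cfsg CfsgLib.Characters CfsgLib.SuzukiWong
open scoped ComplexConjugate

universe u v

variable {K : Type u} [Group K] [Fintype K] (hK : ∀ a b : K, a * b = b * a)

include hK

/-- The slice along an irreducible character. -/
theorem isGen_slice {U : Type v} [Group U] [Fintype U] {F : K × U → ℂ}
    (hF : IsGeneralizedCharacter (K × U) F) {θ : U → ℂ} (hθ : IsIrrCharacter U θ) :
    IsGeneralizedCharacter K (fun y => classInner (fun u => F (y, u)) θ) := by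
  refine isGen_of_classInner (fun g x => by
    show classInner (fun u => F (x * g * x⁻¹, u)) θ = _
    rw [hK x g, mul_inv_cancel_right]) fun ξ => ?_
  obtain ⟨n, hn⟩ := classInner_gen hF (isGen_mul (isGen_comp (MonoidHom.fst K U) (isGen_of_isIrr ξ.2))
    (isGen_comp (MonoidHom.snd K U) (isGen_of_isIrr hθ)))
  refine ⟨n, ?_⟩
  rw [← hn]
  simp only [classInner, Nat.card_prod, Nat.cast_mul, mul_inv, Fintype.sum_prod_type,
    Finset.mul_sum, Finset.sum_mul, Pi.mul_apply, map_mul]
  exact Finset.sum_congr rfl fun y _ => Finset.sum_congr rfl fun u _ => by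
    simp only [MonoidHom.coe_fst, MonoidHom.coe_snd]; ring

theorem irr_one (ξ : IrrCharacter K) : (ξ : K → ℂ) 1 = 1 :=
  TwoClasses.irr_degree_one_of_comm hK ξ.2

theorem card_irr : Fintype.card (IrrCharacter K) = Nat.card K := by
  rw [← Nat.card_eq_fintype_card, card_irrCharacter]
  refine (Nat.card_congr (Equiv.ofBijective ConjClasses.mk ⟨fun a b h => ?_, ?_⟩)).symm
  · obtain ⟨c, hc⟩ := isConj_iff.1 (ConjClasses.mk_eq_mk_iff_isConj.1 h)
    rwa [hK c a, mul_inv_cancel_right] at hc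
  · exact ConjClasses.mk_surjective

open Classical in
/-- Squares off the identity. -/
theorem sum_ne_one {e : K → ℂ} (he : IsGeneralizedCharacter K e) :
    ∑ y ∈ Finset.univ.erase (1 : K), Complex.normSq (e y) =
      ((Nat.card K * ∑ ξ, cof e ξ ^ 2 - (∑ ξ, cof e ξ) ^ 2 : ℤ) : ℝ) := by
  have h1 : e 1 = ((∑ ξ, cof e ξ : ℤ) : ℂ) := by
    rw [eq_sum_cof he]
    push_cast
    exact Finset.sum_congr rfl fun ξ _ => by rw [irr_one hK ξ, mul_one]
  have h2 : ∑ y : K, (Complex.normSq (e y) : ℂ) = ((Nat.card K * ∑ ξ, cof e ξ ^ 2 : ℤ) : ℂ) := by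
    have h := sum_cof_mul he he
    simp only [← sq, classInner, Complex.mul_conj] at h
    rw [Int.cast_mul, h, Int.cast_natCast, ← mul_assoc, mul_inv_cancel₀ natCard_ne_zero, one_mul]
  apply Complex.ofReal_injective
  rw [Complex.ofReal_sum, Finset.sum_erase_eq_sub (Finset.mem_univ _), h2, h1,
    Complex.normSq_intCast]
  push_cast
  ring

open Classical in
/-- The bound off the identity. -/
theorem card_sub_one_le {e : K → ℂ} (he : IsGeneralizedCharacter K e) {y : K} (hy : y ≠ 1)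
    (hey : e y ≠ 0) :
    (Nat.card K : ℝ) - 1 ≤ ∑ y ∈ Finset.univ.erase (1 : K), Complex.normSq (e y) := by
  obtain ⟨ξ₀, ξ₁, hne⟩ : ∃ ξ₀ ξ₁, cof e ξ₀ ≠ cof e ξ₁ := by
    by_contra hno
    push Not at hno
    obtain ⟨ξ₀⟩ : Nonempty (IrrCharacter K) := ⟨⟨_, isIrr_one⟩⟩
    refine hey ?_
    rw [eq_sum_cof he, Finset.sum_congr rfl fun ξ _ => by rw [hno ξ ξ₀], ← Finset.mul_sum]
    have h := sum_degree_mul y
    simp only [irr_one hK, one_mul, hy, if_false] at h
    rw [h, mul_zero]
  rw [sum_ne_one hK he]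
  set w := fun ξ => cof e ξ - cof e ξ₀ with hw
  set m := Nat.card K with hm
  have hcard : (Finset.univ : Finset (IrrCharacter K)).card = m := card_irr hK
  have hshift : (m : ℤ) * ∑ ξ, cof e ξ ^ 2 - (∑ ξ, cof e ξ) ^ 2 =
      (m : ℤ) * ∑ ξ, w ξ ^ 2 - (∑ ξ, w ξ) ^ 2 := by
    simp only [hw, sub_sq, Finset.sum_add_distrib, Finset.sum_sub_distrib, Finset.sum_const, hcard,
      nsmul_eq_mul, ← Finset.mul_sum, ← Finset.sum_mul]
    ring
  set T := Finset.univ.filter fun ξ => w ξ ≠ 0 with hT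
  have hTpos : 1 ≤ T.card := Finset.card_pos.2
    ⟨ξ₁, Finset.mem_filter.2 ⟨Finset.mem_univ _, sub_ne_zero.2 (Ne.symm hne)⟩⟩
  have hTlt : T.card < m := by
    rw [← hcard]
    exact Finset.card_lt_card (Finset.ssubset_univ_iff.2 fun h => by
      have := h ▸ Finset.mem_univ ξ₀
      simp [hT, hw] at this)
  have hs1 : ∑ ξ, w ξ = ∑ ξ ∈ T, w ξ := (Finset.sum_filter_ne_zero _).symm
  have hs2 : ∑ ξ, w ξ ^ 2 = ∑ ξ ∈ T, w ξ ^ 2 :=
    (Finset.sum_subset (Finset.subset_univ _) fun ξ _ hξ => by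
      simp only [hT, Finset.mem_filter, Finset.mem_univ, true_and, not_not] at hξ
      simp [hξ]).symm
  have hge : (T.card : ℤ) ≤ ∑ ξ ∈ T, w ξ ^ 2 := by
    rw [Finset.card_eq_sum_ones, Nat.cast_sum]
    refine Finset.sum_le_sum fun ξ hξ => ?_
    have := (Finset.mem_filter.1 hξ).2
    have := pow_ne_zero 2 this
    have := sq_nonneg (w ξ)
    push_cast
    omega
  have hcs := sq_sum_le_card_mul_sum_sq (s := T) (f := w)
  have hfin : (m : ℤ) - 1 ≤ (m : ℤ) * ∑ ξ, w ξ ^ 2 - (∑ ξ, w ξ) ^ 2 := by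
    rw [hs1, hs2]
    have h1 : (1 : ℤ) ≤ T.card := by exact_mod_cast hTpos
    have h2 : (T.card : ℤ) + 1 ≤ m := by exact_mod_cast hTlt
    nlinarith [mul_le_mul_of_nonneg_left hge (by linarith : (0 : ℤ) ≤ m - T.card),
      mul_nonneg (by linarith : (0 : ℤ) ≤ (T.card : ℤ) - 1) (by linarith : (0 : ℤ) ≤ m - T.card - 1)]
  rw [hshift]
  exact_mod_cast hfin

/-- Values of a generalized character at involutions are integers. -/
theorem int_apply {e : K → ℂ} (he : IsGeneralizedCharacter K e) {y : K} (hy : y * y = 1) :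
    ∃ n : ℤ, e y = n := by
  choose n hn using fun ξ : IrrCharacter K => BlocksFrobenius.exists_int_apply ξ hy
  refine ⟨∑ ξ, cof e ξ * n ξ, ?_⟩
  rw [eq_sum_cof he]
  push_cast
  exact Finset.sum_congr rfl fun ξ _ => by rw [hn]

end CfsgLib.GW.PhiTrick
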